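import Cfsg.Agent.TO.X5.Inv
import Cfsg.Agent.TO.X5.Abs
import Cfsg.Agent.TO.Blk

/-!
# S4817, exceptional groups, `p = 5` : the core (helper34)
-/

set_option autoImplicit false
set_option linter.unusedSectionVars false
set_option maxHeartbeats 200000

namespace Cfsg.Agent.TO.X5

open CoxeterSystem Cfsg Cfsg.Lie Cfsg.Lie.ChevalleyDatum Matrix
open Cfsg.Agent.ChevalleyStructure Cfsg.Agent.ChevalleyStructure.Elts Cfsg.Agent.ChevalleyStructure.CoxeterGeom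
  Cfsg.Agent.ChevalleyStructure.CoxeterGeomTypes
open Cfsg.Agent.Tits.Roots Cfsg.Agent.Nodes Cfsg.Agent.Nodes.RGDChev Cfsg.Agent.Nodes.Coroot Cfsg.Agent.TO.X
open Cfsg.Agent.DL Cfsg.Agent.KZ.DatX Cfsg.Agent.BpExc.Zc

attribute [local instance] fact5

variable {C : ChevalleyDatum} {l : ℕ} {M : CoxeterMatrix (Fin l)} {hp : IsType C l M} {r : ℕ} [Fact r.Prime]
  {k : Type} [Field k] [CharP k r] [IsAlgClosed k] {Mx : Matrix (Fin l) (Fin l) ℤ} {X : XF hp r k Mx}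
  {E : Tor X} {ζ : kˣ} {u x : Fin l → ZMod 5} {rt : P5 → Fin l → ℤ}
  {Adm : Matrix (Fin l) (Fin l) ℤ → Prop} {d : ℕ} {S : Type} [Group S] {s : XS X Adm d S}
  {hζ : IsPrimitiveRoot ζ 5} {q : ℤ} {g : M.Group} {G : Type} [Group G] [Finite G] {σ : G →* S} {I : Ideal AlgInt}
  {b : Set (IrrCharacter G)} {D : Subgroup G} {P : Subgroup ↥(C.group k)}

/-- the elements which normalise the plane -/
def Nb (E : Tor X) (ζ : kˣ) (u x : Fin l → ZMod 5) (y : ↥(C.group k)) : Prop :=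
  ∀ t, y * t * y⁻¹ ∈ Bt E ζ u x ↔ t ∈ Bt E ζ u x

theorem Nb.inv {y : ↥(C.group k)} (h : Nb E ζ u x y) : Nb E ζ u x y⁻¹ := fun t => by
  rw [← h]
  simp [mul_assoc]

theorem nb_iff (hζ : IsPrimitiveRoot ζ 5) {y : ↥(C.group k)} :
    y ∈ Subgroup.normalizer (Bs E u x hζ : Set ↥(C.group k)) ↔ Nb E ζ u x y :=
  Subgroup.mem_normalizer_iff.trans (forall_congr' fun _ => Iff.comm)

theorem mem_iff_of_comm {β : MulAut ↥(C.group k)} (hc : ∀ y, β (X.F y) = X.F (β y)) (h : ∀ y ∈ P, β y ∈ P)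
    (y : ↥(C.group k)) : β y ∈ P ↔ y ∈ P := by
  refine ⟨fun hy => ?_, h y⟩
  obtain ⟨m, hm, e⟩ := X.amb.exists_pow_fix fun _ : Unit => y
  have := X.amb.finite_fix_pow hm
  have h1 : ∀ (n : ℕ) w, β ((X.F ^ n) w) = (X.F ^ n) (β w) := fun n => by
    induction n with
    | zero => exact fun _ => rfl
    | succ n ih => exact fun w => by rw [pow_succ, MulAut.mul_apply, MulAut.mul_apply, ih, hc]
  let f : fix (X.F ^ m) → fix (X.F ^ m) := fun w => ⟨β w, (h1 m w).symm.trans (congrArg β w.2)⟩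
  obtain ⟨n, hn, e'⟩ := Function.Injective.mem_periodicPts (f := f)
    (fun a b e => Subtype.ext (β.injective (congrArg Subtype.val e))) ⟨y, e ()⟩
  have h2 : ∀ j, (f^[j + 1] ⟨y, e ()⟩).1 ∈ P := fun j => by
    induction j with
    | zero => exact hy
    | succ j ih => rw [Function.iterate_succ_apply']; exact h _ ih
  have h3 := h2 (n - 1)
  rwa [Nat.sub_add_cancel hn, e'.eq] at h3

namespace Su

variable (H : Hyp 5 I b D σ) (U : Su s hζ (Ind σ b) (D.map σ) E u x rt q g)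
include U

omit [Finite G] in
theorem map_P (hP : P = ⊤ ∨ P = E.S (Del rt)) {β : MulAut ↥(C.group k)} (h1 : ∃ z n c, Fo E ζ u x β z n c)
    (h2 : ∃ z n c, Fo E ζ u x β⁻¹ z n c) (y : ↥(C.group k)) : β y ∈ P ↔ y ∈ P := by
  obtain rfl | rfl := hP
  · exact Iff.rfl
  · obtain ⟨_, _, _, h1⟩ := h1
    obtain ⟨_, _, _, h2⟩ := h2
    exact ⟨fun h => by simpa using h2.Del hζ U.T U.h5 U.cz h, h1.Del hζ U.T U.h5 U.cz⟩

omit [Finite G] in
theorem conj_P (hP : P = ⊤ ∨ P = E.S (Del rt)) {y : ↥(C.group k)} (h : Nb E ζ u x y) (w : ↥(C.group k)) :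
    MulAut.conj y w ∈ P ↔ w ∈ P :=
  have ⟨z, c, h1⟩ := fo_conj h
  have ⟨z', c', h2⟩ := fo_conj h.inv
  U.map_P hP ⟨z, 1, c, h1⟩ ⟨z', 1, c', by rwa [← map_inv]⟩ w

include H

theorem bt_iff {t : ↥(C.group k)} : t ∈ Bt E ζ u x ↔ ∃ a ∈ D, s.ι (σ a) = t := by
  have : Finite S := Finite.of_surjective σ H.surj
  rw [U.mem_Bt_iff]
  exact ⟨fun ⟨_, ⟨a, ha, e⟩, e'⟩ => ⟨a, ha, by rw [e, e']⟩, fun ⟨a, ha, e⟩ => ⟨_, ⟨a, ha, rfl⟩, e⟩⟩

theorem exists_d {v : Fin l → ZMod 5} (hv : v ∈ BB u x) : ∃ a ∈ D, s.ι (σ a) = E.e ζ v := (U.bt_iff H).1 ⟨v, hv, rfl⟩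

theorem aut_Bt {α : MulAut G} {β : MulAut ↥(C.group k)} (h : ∀ a, s.ι (σ (α a)) = β (s.ι (σ a)))
    (hD : ∀ a, α a ∈ D ↔ a ∈ D) (y : ↥(C.group k)) : β y ∈ Bt E ζ u x ↔ y ∈ Bt E ζ u x := by
  rw [U.bt_iff H, U.bt_iff H]
  refine ⟨fun ⟨a, ha, e⟩ => ⟨α.symm a, (hD _).1 (by rwa [α.apply_symm_apply]), β.injective ?_⟩, ?_⟩
  · rw [← h, α.apply_symm_apply, e]
  · rintro ⟨a, ha, rfl⟩
    exact ⟨α a, (hD a).2 ha, h a⟩

omit H U [Finite G] in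
theorem conj_eq (t a : G) : s.ι (σ (MulAut.conj t a)) = MulAut.conj (s.ι (σ t)) (s.ι (σ a)) := by
  simp only [MulAut.conj_apply, map_mul, map_inv]

theorem nb_of {t : G} (ht : t ∈ Subgroup.normalizer (D : Set G)) : Nb E ζ u x (s.ι (σ t)) :=
  U.aut_Bt H (conj_eq t) fun a => (Subgroup.mem_normalizer_iff.1 ht a).symm

omit U in
theorem pelt {a : G} (ha : a ∈ D) : ∃ n : ℕ, a ^ 5 ^ n = 1 :=
  let ⟨n, hn⟩ := Cfsg.Agent.BHZ.Nil.isPGroup_defect H.hD ⟨a, ha⟩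
  ⟨n, congrArg Subtype.val hn⟩

theorem mem_Ce {t : G} : t ∈ Ce D ↔ ∀ v ∈ BB u x, s.ι (σ t) * E.e ζ v * (s.ι (σ t))⁻¹ = E.e ζ v := by
  refine ⟨fun h v hv => ?_, fun h a ha => ?_⟩
  · obtain ⟨a, ha, e⟩ := U.exists_d H hv
    rw [← e, ← map_mul, ← map_mul, ← h a ha, map_mul, map_mul, mul_inv_cancel_right]
  · obtain ⟨n, hn⟩ := pelt H ha
    obtain ⟨v, hv, e⟩ := (U.bt_iff H).2 ⟨a, ha, rfl⟩
    exact H.cpp.comm_of_pelt hn (ι_inj s (by rw [map_mul, map_mul, ← e, ← mul_inv_eq_iff_eq_mul.1 (h v hv)]))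

theorem mem_norm {t : G} (h : Nb E ζ u x (s.ι (σ t))) : t ∈ Subgroup.normalizer (D : Set G) := by
  refine Subgroup.mem_normalizer_fintype fun a ha => ?_
  obtain ⟨n, hn⟩ := pelt H ha
  obtain ⟨a', h1, e⟩ := (U.bt_iff H).1 ((h _).2 ((U.bt_iff H).2 ⟨a, ha, rfl⟩))
  exact H.cpp.mem_of_pelt (Cfsg.Agent.BHZ.Nil.isPGroup_defect H.hD) (n := n) (by rw [conj_pow, hn, mul_one, mul_inv_cancel])
    ⟨a', h1, ι_inj s (by rw [e, map_mul, map_mul, map_inv, map_mul, map_mul, map_inv])⟩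

theorem ab : D ≤ Ce D := fun a ha => (U.mem_Ce H).2 fun v _ => by
  rw [E.T_comm (Bt_le ((U.bt_iff H).2 ⟨a, ha, rfl⟩)) (E.e_mem ζ v), mul_inv_cancel_right]

theorem cardD : Nat.card D = 25 := by
  have : Finite S := Finite.of_surjective σ H.surj
  exact (Nat.card_congr (Equiv.ofBijective _ ⟨H.injD, σ.subgroupMap_surjective D⟩)).trans U.card

end Su

theorem core : Core := by
  intro C l M hp r _ k _ _ _ Mx X Adm d S _ s ζ hζ G _ _ σ I b D H E u x rt q g U P ⟨sc, s1, s2, s3⟩ hc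
  have hP : P = ⊤ ∨ P = E.S (Del rt) := hc.elim (·.1) fun h => .inl h.1
  have hS : E.S (Del rt) ≤ P := by rcases hP with rfl | rfl; exacts [le_top, le_rfl]
  obtain ⟨θ, hθ⟩ := blk.can0 G 5 I b D H.hM H.hb H.hD (U.ab H)
  let HA : Subgroup ↥(C.group k) := Td E rt ⊓ P ⊓ fix X.F
  have hA : ∀ y ∈ HA, y ∈ P ∧ X.F y = y ∧ y ^ (4 * (q.natAbs ^ 2 + 1)) = 1 := fun y hy =>
    ⟨hy.1.2, hy.2, by rw [mul_comm, pow_mul, U.pow_eq hy.1.1 hy.2, one_pow]⟩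
  let sA : HA →* G := MonoidHom.mk' (fun y => sc y) fun y z => s2 HA hA y y.2 z z.2
  have a1 : ∀ y : HA, s.ι (σ (sA y)) = y := fun y => s1 y (hA y y.2).1 (hA y y.2).2.1 (hA y y.2).2.2
  -- conjugation
  have c1 : ∀ t ∈ Subgroup.normalizer (D : Set G), ∀ y : HA, ∃ h : MulAut.conj (s.ι (σ t)) y.1 ∈ HA,
      t * sA y * t⁻¹ = sA ⟨_, h⟩ := fun t ht y => by
    obtain ⟨z, c, h1⟩ := fo_conj (U.nb_of H ht)
    obtain ⟨w, hw⟩ := exists_τ y.2.1.1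
    refine ⟨⟨⟨hw ▸ (h1.td hζ U.T U.h5 (hw ▸ y.2.1.1)).2, (U.conj_P hP (U.nb_of H ht) _).2 y.2.1.2⟩, ?_⟩,
      s3 (MulAut.conj t) _ (Su.conj_eq t) (U.conj_P hP (U.nb_of H ht)) y (hA y y.2).1 (hA y y.2).2.1 (hA y y.2).2.2⟩
    show X.F _ = _
    rw [MulAut.conj_apply, map_mul, map_mul, map_inv, F_ι, (hA y y.2).2.1]
    rfl
  have c2 : ∀ a ∈ sA.range, ∀ c ∈ Ce D, a * c = c * a := by
    rintro _ ⟨y, rfl⟩ c hc
    obtain ⟨h, e⟩ := c1 c (Subgroup.centralizer_le_normalizer _ hc) y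
    rw [mul_inv_eq_iff_eq_mul.1 e]
    exact congrArg (fun w => sA w * c) (Subtype.ext (cent_Td hζ U.T U.h5 ((U.mem_Ce H).1 hc) y.2.1.1).symm)
  refine five blk H.toTwo hθ (U.cardD H) c2 (fun a ha c hc => (c2 a ha c (U.ab H hc)).symm) (cop_three q.natAbs)
    ?_ ?_ ?_ ?_
  · rintro _ ⟨y, rfl⟩
    rw [← map_pow, show y ^ _ = 1 from Subtype.ext (U.pow_eq y.2.1.1 y.2.2), map_one]
  · rintro t ht _ ⟨y, rfl⟩
    have h0 : t ∈ Subgroup.normalizer (D : Set G) := Subgroup.mem_normalizer_fintype fun a ha => ht a ha ▸ inv_mem ha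
    obtain ⟨h, e⟩ := c1 t h0 y
    obtain ⟨z, c, h1⟩ := fo_conj (U.nb_of H h0)
    rw [e, ← map_inv]
    refine congrArg sA (Subtype.ext (h1.neg hζ U.T U.h5 (fun v hv => ?_) y.2.1.1))
    obtain ⟨a, ha, e⟩ := U.exists_d H hv
    rw [← e, ← Su.conj_eq, MulAut.conj_apply, ht a ha, map_inv, map_inv]
  · rintro t h0 ht _ ⟨y, rfl⟩
    obtain ⟨h, e⟩ := c1 t h0 y
    obtain ⟨h', e'⟩ := c1 t h0 ⟨_, h⟩
    obtain ⟨z, c, h1⟩ := fo_conj (U.nb_of H h0)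
    refine ⟨⟨_, e.symm⟩, ?_⟩
    rw [e, e', ← map_mul, ← map_mul, ← map_one sA]
    refine congrArg sA (Subtype.ext (h1.three hζ U.T U.h5 (fun v hv => ?_) y.2.1.1))
    obtain ⟨a, ha, e⟩ := U.exists_d H hv
    rw [← e, ← Su.conj_eq, ← Su.conj_eq, ← map_mul, ← map_mul, ← map_mul, ← map_mul]
    exact (congrArg (fun w => s.ι (σ w)) (ht a ha)).trans (by simp)
  intro lc hl
  have l2 : ∀ y : HA, lc (sA.rangeRestrict y) ^ 2 = 1 := fun y => by rw [pow_two, ← map_mul, hl]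
  -- the choice of the line
  obtain ⟨a, ha, l1⟩ : ∃ a : P5, a ≠ 0 ∧ ∀ y : HA, y.1 ∈ E.S (Dl rt (uu u x a)) ∨ r = 2 →
      (∀ v ∈ BB u x, y.1 * E.e ζ v * y.1⁻¹ = E.e ζ v) → lc (sA.rangeRestrict y) = 1 := by
    have l3 : ∀ y : HA, y ^ (q.natAbs ^ 2 + 1) = 1 := fun y => Subtype.ext (U.pow_eq y.2.1.1 y.2.2)
    rcases U.odd with ⟨-, h1⟩ | ⟨hr, o, h1, h2⟩
    · exact ⟨(1, 0), by decide, fun y _ _ => (pow_eq_one_iff_of_coprime (Nat.coprime_two_right.2 h1)).1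
        ⟨by rw [← map_pow, ← map_pow, l3, map_one, map_one], l2 y⟩⟩
    · let z : ∀ a : P5, a ≠ 0 → HA := fun a ha => ⟨zz E rt a, ⟨zz_Td ha, hS (U.T.zz_S ha)⟩, U.F_zz hr ha⟩
      obtain ⟨a, ha, h3⟩ : ∃ a ha, lc (sA.rangeRestrict (z a ha)) = 1 := by
        by_contra h
        push Not at h
        have h4 : ∀ a ha, lc (sA.rangeRestrict (z a ha)) = -1 := fun a ha =>
          (sq_eq_one_iff.1 (l2 _)).resolve_left (h a ha)
        have h5 : z (1, 0) (by decide) * z (1, 1) (by decide) * z (1, 2) (by decide) = 1 := Subtype.ext U.T.zz_mul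
        have h6 := congrArg (fun w => lc (sA.rangeRestrict w)) h5
        simp only [map_mul, map_one, h4] at h6
        norm_num at h6
      refine ⟨a, ha, fun y h4 h5 => (pow_eq_one_iff_of_coprime (Nat.coprime_two_right.2 h1)).1 ⟨?_, l2 y⟩⟩
      rw [← map_pow, ← map_pow]
      rcases U.invol hr ha (pow_mem (h4.resolve_right hr) o) (fun v hv => by
        rw [mul_inv_eq_iff_eq_mul]
        exact (Commute.pow_left (mul_inv_eq_iff_eq_mul.1 (h5 v hv)) o).eq) (y ^ o).2.2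
        (by rw [← pow_mul, ← h2]; exact U.pow_eq y.2.1.1 y.2.2) with e | e
      · rw [show y ^ o = 1 from Subtype.ext e, map_one, map_one]
      · rwa [show y ^ o = z a ha from Subtype.ext e]
  obtain ⟨u₀, hu, eu⟩ := U.exists_d H (uu_mem a)
  let HK : Subgroup ↥(C.group k) := E.S (Dl rt (uu u x a)) ⊓ Subgroup.normalizer (Bs E u x hζ : Set _) ⊓ fix X.F
  have hK : ∀ y ∈ HK, y ∈ P ∧ X.F y = y ∧ y ^ (4 * (q.natAbs ^ 2 + 1)) = 1 := fun y hy =>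
    ⟨hS (BNOf.RGD.Sup_mono (Dl_le _) hy.1.1), hy.2, U.pow_K ha hy.1.1 ((nb_iff hζ).1 hy.1.2) hy.2⟩
  let sK : HK →* G := MonoidHom.mk' (fun y => sc y) fun y z => s2 HK hK y y.2 z z.2
  have k1 : ∀ y : HK, s.ι (σ (sK y)) = y := fun y => s1 y (hK y y.2).1 (hK y y.2).2.1 (hK y y.2).2.2
  obtain ⟨y₀, y1, y2, y3, y4⟩ := U.exists_x ha
  let y : HK := ⟨y₀, ⟨y1, (nb_iff hζ).2 y2⟩, y3⟩
  have x1 : sK y ∈ Subgroup.normalizer (D : Set G) := U.mem_norm H (by rw [k1]; exact y2)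
  have x2 : sK y ∈ Cu u₀ := by
    obtain ⟨n, hn⟩ := Su.pelt H hu
    exact Subgroup.mem_centralizer_singleton_iff.2 (H.cpp.comm_of_pelt hn (ι_inj s (by
      rw [map_mul, map_mul, k1, eu]
      exact comm_Dl hζ U.T y1))).symm
  have x3 : sK y ∉ Ce D := fun h => y4 (by simpa only [k1] using (U.mem_Ce H).1 h)
  refine ⟨u₀, hu, fun e => U.T.uu_ne ha ((E.e_eq_one hζ).1 (by rw [← eu, e, map_one, map_one])), ?_⟩
  rcases hc with ⟨-, hc⟩ | ⟨rfl, hr, h1, h2⟩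
  · refine ⟨sK.range, ?_, ?_, sK y, ⟨y, rfl⟩, x1, x2, x3⟩
    · rintro α h1 h2 _ ⟨w, rfl⟩
      obtain ⟨α', h3⟩ := TO.exists_ind H.surj (α := α) (by rw [H.ker]; exact fun g => aut_center α)
        (by rw [H.ker]; exact fun g => aut_center α⁻¹)
      obtain ⟨β, L⟩ := exists_lift s α'
      have h4 : ∀ a, s.ι (σ (α a)) = β (s.ι (σ a)) := fun a => by rw [h3, L.ι]
      have h5 := U.aut_Bt H h4 h1
      obtain ⟨z, n, c, h6⟩ := fo_lift hc L h5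
      have h7 : ∀ w, β w ∈ P ↔ w ∈ P := by
        obtain rfl | rfl := hP
        · exact fun _ => Iff.rfl
        · exact mem_iff_of_comm L.comm fun _ => h6.Del hζ U.T U.h5 U.cz
      refine ⟨⟨β w, ⟨h6.Dl hζ U.T U.h5 U.cz (uu_mem a) (by rw [← eu, ← h4, h2]) w.2.1.1, (nb_iff hζ).2 fun t => ?_⟩, ?_⟩,
        (s3 α β h4 h7 w (hK w w.2).1 (hK w w.2).2.1 (hK w w.2).2.2).symm⟩
      · obtain ⟨t, rfl⟩ := β.surjective t
        rw [← map_inv, ← map_mul, ← map_mul, h5, h5]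
        exact (nb_iff hζ).1 w.2.1.2 t
      · show X.F _ = _
        rw [← L.comm, (hK w w.2).2.1]
        rfl
    · rintro _ ⟨w, rfl⟩ h1
      have h2 : ∀ v ∈ BB u x, w.1 * E.e ζ v * w.1⁻¹ = E.e ζ v := by simpa only [k1] using (U.mem_Ce H).1 h1
      let w' : HA := ⟨w, ⟨U.mem_Td ha w.2.1.1 h2, (hK w w.2).1⟩, w.2.2⟩
      exact ⟨⟨w', rfl⟩, l1 w' (.inl w.2.1.1) h2⟩
  · refine ⟨Cu u₀, fun α _ h3 w hw => ?_, fun w _ h3 => ?_, sK y, x2, x1, x2, x3⟩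
    · rw [Subgroup.mem_centralizer_singleton_iff] at hw ⊢
      rw [← h3, ← map_mul, hw, map_mul]
    · have h4 := (U.mem_Ce H).1 h3
      have h5 : s.ι (σ w) ∈ E.T := by
        rw [← show _ = E.T from E.D.centralizer_T]
        exact ⟨Subgroup.mem_top _, fun t ht => (mul_inv_eq_iff_eq_mul.1 (cent_Td hζ U.T U.h5 h4 (h1 ht))).symm⟩
      let w' : HA := ⟨s.ι (σ w), ⟨h1 h5, Subgroup.mem_top _⟩, F_ι s _⟩
      have h6 : sA w' = w := h2 (ι_inj s (a1 w'))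
      exact ⟨⟨w', h6⟩, (congrArg lc (Subtype.ext h6.symm)).trans (l1 w' (.inr hr) h4)⟩

end Cfsg.Agent.TO.X5
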