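import Cfsg.Agent.TO.G2D.Gen
import Cfsg.Agent.TO.E6.Tool
import Cfsg.Agent.BpExc.FixRel

/-!
# S4817, exceptional groups, `p = 5` : subgroups of rank one and two of a datum (helper34)
-/

set_option autoImplicit false
set_option linter.unusedSectionVars false
set_option maxHeartbeats 200000

namespace Cfsg.Agent.TO.X5

open CoxeterSystem Cfsg.Agent.ChevalleyStructure.CoxeterGeom Cfsg.Agent.Tits.Roots Cfsg.Agent.Nodes.Reps
  Cfsg.Agent.DL Cfsg.Agent.Nodes Cfsg.Agent.Nodes.BNOf Cfsg.Agent.Nodes.Coroot Cfsg.Agent.BpExc.Zc Matrix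
open scoped commutatorElement

variable {r : ℕ} [Fact r.Prime] {k : Type} [Field k] [CharP k r] {Y : Type} [Group Y] {N : Type} [Fintype N]
  [DecidableEq N] {ρ : Y →* GL N k} {F : MulAut Y} {G : Subgroup Y} [IsAlgClosed k] (D : Datum r ρ F G)

/-- the kernel of a root -/
def Kr (a : D.I → ℤ) : Set Y := {t | t ∈ D.T ∧ D.χ a t = 1}

/-- a point of the coroot torus -/
noncomputable def ct (a : D.I → ℤ) (s : kˣ) : Y := D.τ (coch (D.cor a) s)

/-- long roots -/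
def Lg (a : D.I → ℤ) : Prop := D.Rt a ∧ ∀ c, D.Rt c → c ≠ a → cpr D.cs D.h c a ≤ 1

variable {D} {a b : D.I → ℤ}

theorem ct_mem (a : D.I → ℤ) (s : kˣ) : ct D a s ∈ D.T := D.τ_mem _

theorem ct_mul (a : D.I → ℤ) (s t : kˣ) : ct D a (s * t) = ct D a s * ct D a t := by rw [ct, map_mul, map_mul]; rfl

theorem χ_ct (ha : D.Rt a) (b : D.I → ℤ) (s : kˣ) : D.χ b (ct D a s) = ((s ^ cpr D.cs D.h b a : kˣ) : k) := by
  rw [ct, D.χ_τ, chr_coch, D.pair_cor ha]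

theorem ct_neg (ha : D.Rt a) (s : kˣ) : ct D (-a) s = ct D a s⁻¹ := by
  rw [ct, ct, D.cor_neg ha, coch_neg, ← map_inv]

theorem ct_S (ha : D.Rt a) (s : kˣ) : ct D a s ∈ D.S {a, -a} := by
  obtain ⟨m, hm, h1⟩ := D.exists_rp_rf ha
  obtain ⟨u, hu, t, ht, rfl⟩ := (D.mem_TS (G2D.rt_pair ha)).1 ((sup_le_sup_left (sup_le
    (RGD.le_Sup (S := {a, -a}) (.inl rfl)) (RGD.le_Sup (S := {a, -a}) (.inr rfl))) _) hm)
  exact G2D.τ_cor_mem ha s (by simpa using h1.mul (rp_of_mem (cs := D.cs) (hN := D.nsys) ht).inv) hu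

theorem Lg.neg (h : Lg D a) : Lg D (-a) := ⟨h.1.neg, fun c hc h1 => by
  have h2 := h.2 (-c) hc.neg fun e => h1 (neg_eq_iff_eq_neg.1 e)
  rwa [cpr_neg_right _ _ _ h.1, ← cpr_neg _ _ _ h.1]⟩

theorem exists_ker (ha : D.Rt a) (hb : D.Rt b) (h1 : b ≠ a) (h2 : b ≠ -a) : ∃ t ∈ Kr D a, D.χ b t ≠ 1 := by
  classical
  set i := cpr D.cs D.h b a with hi
  have h3 : (2 : ℤ) • b - i • a ≠ 0 := fun e => by
    have h4 := congrArg (fun x => cpr D.cs D.h x b) (sub_eq_zero.1 e)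
    simp only [cpr_smul _ _ _ _ hb, cpr_self _ _ hb] at h4
    have := Base.cpr_mul_lt hb ha h1 h2
    rw [← hi] at this
    omega
  have h4 : D.wt ((2 : ℤ) • b - i • a) ≠ 0 := fun e => h3 (D.wt_injective (e.trans (map_zero _).symm))
  obtain ⟨e, he⟩ := Infinite.exists_notMem_finset ({0, 1} : Finset k)
  rw [Finset.mem_insert, Finset.mem_singleton, not_or] at he
  obtain ⟨c, hc⟩ := chr_surj h4 (Units.mk0 e he.1)
  have h5 : ∀ x : D.I → ℤ, D.χ x (D.τ (c ^ 2) * ct D a (chr (D.wt a) c)⁻¹) =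
      ((chr (D.wt ((2 : ℤ) • x - cpr D.cs D.h x a • a)) c : kˣ) : k) := fun x => by
    rw [D.χ_mul _ (D.τ_mem _) (ct_mem _ _), χ_ct ha, D.χ_τ, ← Units.val_mul, map_sub, map_zsmul, map_zsmul, chr_sub,
      chr_zsmul, chr_zsmul, map_pow, _root_.inv_zpow, zpow_ofNat]
  refine ⟨_, ⟨mul_mem (D.τ_mem (c ^ 2)) (ct_mem a (chr (D.wt a) c)⁻¹), ?_⟩, ?_⟩
  · rw [h5, cpr_self _ _ ha, sub_self, map_zero, chr_zero, Units.val_one]
  · rw [h5, hc]
    exact he.2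

theorem Sz_Kr (ha : D.Rt a) : D.Sz (Kr D a) = {a, -a} := by
  ext b
  constructor
  · rintro ⟨hb, h⟩
    by_contra h1
    rw [Set.mem_insert_iff, Set.mem_singleton_iff, not_or] at h1
    obtain ⟨t, ht, h2⟩ := exists_ker ha hb h1.1 h1.2
    exact h2 (h t ht)
  · rintro (rfl | rfl)
    · exact ⟨ha, fun t ht => ht.2⟩
    · exact ⟨ha.neg, fun t ht => by rw [D.χ_neg, ht.2, inv_one]⟩

theorem Kr_le (a : D.I → ℤ) : Kr D a ⊆ D.T := fun _ h => h.1

theorem comm_Kr (ha : D.Rt a) {x t : Y} (hx : x ∈ D.S {a, -a}) (ht : t ∈ Kr D a) : t * x = x * t := by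
  rw [← Sz_Kr ha] at hx
  exact D.cen_le_centralizer (Kr_le a) (D.S_le_cen _ hx) t ht

/-- automorphisms which map the kernel of `a` onto the kernel of `b` -/
theorem map_S1 {β : MulAut Y} (hG : ∀ y, β y ∈ G ↔ y ∈ G) (ha : D.Rt a) (hb : D.Rt b)
    (h : β '' Kr D a = Kr D b) {y : Y} (hy : y ∈ D.S {a, -a}) : β y ∈ D.S {b, -b} := by
  have h1 : (G ⊓ Subgroup.centralizer (Kr D a)).map β.toMonoidHom = G ⊓ Subgroup.centralizer (Kr D b) := by
    ext z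
    obtain ⟨z, rfl⟩ := β.surjective z
    rw [← h]
    refine (Subgroup.mem_map_iff_mem (f := β.toMonoidHom) β.injective).trans (and_congr (hG z).symm ?_)
    show z ∈ Subgroup.centralizer _ ↔ β z ∈ Subgroup.centralizer _
    simp only [Subgroup.mem_centralizer_iff, Set.forall_mem_image, ← map_mul, EmbeddingLike.apply_eq_iff_eq]
  have h2 : (D.cen (Kr D a)).map β.toMonoidHom = D.cen (Kr D b) := by
    rw [← D.conn_eq_cen (Kr_le a), ← D.conn_eq_cen (Kr_le b), CF.map_conn, h1]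
  rw [← Sz_Kr hb, ← G2D.comm_eq, ← h2, ← Subgroup.map_commutator, G2D.comm_eq, Sz_Kr ha]
  exact ⟨y, hy, rfl⟩

theorem map_S {β : MulAut Y} (hG : ∀ y, β y ∈ G ↔ y ∈ G) {A A' : Set (D.I → ℤ)} (hA : ∀ a ∈ A, D.Rt a)
    (h : ∀ a ∈ A, ∃ b, D.Rt b ∧ b ∈ A' ∧ -b ∈ A' ∧ β '' Kr D a = Kr D b) {y : Y} (hy : y ∈ D.S A) : β y ∈ D.S A' := by
  refine RGD.Sup_le (K := (D.S A').comap β.toMonoidHom) (fun a ha u hu => ?_) hy
  obtain ⟨b, hb, h1, h2, h3⟩ := h a ha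
  refine RGD.Sup_mono (S := {b, -b}) ?_ (map_S1 hG (hA a ha) hb h3 (RGD.le_Sup (S := {a, -a}) (.inl rfl) hu))
  rintro c (rfl | rfl) <;> assumption

theorem comm_X (cz : CommZ D.cs D.h D.X) (ha : Lg D a) (hb : D.Rt b) (h0 : cpr D.cs D.h b a = 0) {u v : Y}
    (hu : u ∈ D.X a) (hv : v ∈ D.X b) : u * v = v * u := by
  have h2 := cpr_self D.cs D.h ha.1
  have h1 := cz a b ha.1 hb (fun e => by rw [← e, h2] at h0; omega)
    (fun e => by rw [neg_eq_iff_eq_neg.1 e.symm, cpr_neg _ _ _ ha.1, h2] at h0; omega) u hu v hv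
  refine commutatorElement_eq_one_iff_mul_comm.1 (Subgroup.mem_bot.1 (RGD.Sup_le (K := ⊥) ?_ h1))
  rintro z ⟨hz, i, j, hi, hj, e⟩
  have h3 : cpr D.cs D.h z a = i * 2 := by
    rw [e, cpr_add _ _ _ _ ha.1, cpr_smul _ _ _ _ ha.1, cpr_smul _ _ _ _ ha.1, h2, h0, mul_zero, add_zero]
  have h4 : z = a := by
    by_contra h
    have := ha.2 z hz h
    omega
  rw [h4, h2] at h3
  obtain rfl : i = 1 := by omega
  rw [h4, one_smul, left_eq_add, smul_eq_zero] at e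
  exact absurd e (not_or.2 ⟨hj.ne', hb.ne_zero⟩)

/-- orthogonal sets of roots, one of them long -/
theorem comm_S (cz : CommZ D.cs D.h D.X) {A A' : Set (D.I → ℤ)} (hA : ∀ a ∈ A, Lg D a) (hA' : ∀ b ∈ A', D.Rt b)
    (h0 : ∀ a ∈ A, ∀ b ∈ A', cpr D.cs D.h b a = 0) {u v : Y} (hu : u ∈ D.S A) (hv : v ∈ D.S A') : u * v = v * u := by
  refine Subgroup.mem_centralizer_singleton_iff.1 (RGD.Sup_le (K := Subgroup.centralizer {v}) (fun a ha u hu => ?_) hu)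
  refine Subgroup.mem_centralizer_singleton_iff.2 (Eq.symm ?_)
  refine Subgroup.mem_centralizer_singleton_iff.1 (RGD.Sup_le (K := Subgroup.centralizer {u}) (fun b hb v hv => ?_) hv)
  exact Subgroup.mem_centralizer_singleton_iff.2 (comm_X cz (hA a ha) (hA' b hb) (h0 a ha b hb) hu hv).symm

/-- an element of the group of rank one which centralizes the coroot torus -/
theorem eq_ct (ha : D.Rt a) {x : Y} (hx : x ∈ D.S {a, -a}) (h : ∀ s, ct D a s * x = x * ct D a s) :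
    ∃ s, x = ct D a s := by
  refine G2D.rank_T ha ?_ hx
  rw [← D.centralizer_T]
  refine ⟨D.S_le_G (G2D.rt_pair ha) hx, fun t ht => ?_⟩
  obtain ⟨s, hs⟩ := exists_zpow_eq (k := k) two_ne_zero (Units.mk0 _ (D.χ_ne_zero a t))
  have h1 : t * (ct D a s)⁻¹ ∈ Kr D a := ⟨mul_mem ht (inv_mem (ct_mem _ _)), by
    rw [D.χ_mul _ ht (inv_mem (ct_mem _ _)), D.χ_inv _ (ct_mem _ _), χ_ct ha, cpr_self _ _ ha, hs, Units.val_mk0,
      mul_inv_cancel₀ (D.χ_ne_zero a t)]⟩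
  calc t * x = t * (ct D a s)⁻¹ * (ct D a s * x) := by group
    _ = x * t := by rw [h, ← mul_assoc, comm_Kr ha hx h1]; group

end Cfsg.Agent.TO.X5
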