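import Cfsg.Agent.TO.X5.GeoA

/-!
# S4817, exceptional groups, `p = 5` : a pair of orthogonal long roots which is swapped by `F` (helper34)
-/

set_option autoImplicit false
set_option linter.unusedSectionVars false
set_option maxHeartbeats 200000

namespace Cfsg.Agent.TO.X5

open CoxeterSystem Cfsg.Agent.ChevalleyStructure.CoxeterGeom Cfsg.Agent.Tits.Roots Cfsg.Agent.Nodes.Reps
  Cfsg.Agent.DL Cfsg.Agent.Nodes Cfsg.Agent.Nodes.BNOf Cfsg.Agent.Nodes.Coroot Cfsg.Agent.BpExc.Zc Matrix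

variable {r : ℕ} [Fact r.Prime] {k : Type} [Field k] [CharP k r] {Y : Type} [Group Y] {N : Type} [Fintype N]
  [DecidableEq N] {ρ : Y →* GL N k} {F : MulAut Y} {G : Subgroup Y} [IsAlgClosed k] {D : Datum r ρ F G}
  {a b : D.I → ℤ}

theorem F_ct (ha : D.Rt a) (s : kˣ) : F (ct D a s) = ct D (D.g a) (s ^ r ^ D.ex a) := by
  rw [ct, ct, D.F_τ, mon_coch, D.Mx_cor ha, coch_zsmul, ← zpow_natCast, Nat.cast_pow]

theorem conj_ct {w : D.W} {m : Y} (hm : D.Rp w m) (ha : D.Rt a) (s : kˣ) :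
    m * ct D a s * m⁻¹ = ct D (D.act w a) s := by
  rw [ct, ct, D.conj_τ hm, mon_coch, D.cor_act w ha]

theorem not_sq (ha : D.Rt a) : ¬ ∀ s, ct D a s⁻¹ = ct D a s := fun h => by
  have h1 : ∀ s : kˣ, s ^ (4 : ℤ) = 1 := fun s => by
    have h2 := congrArg (D.χ a) (h s)
    rw [χ_ct ha, χ_ct ha, cpr_self _ _ ha, Units.val_inj, _root_.inv_zpow, inv_eq_iff_mul_eq_one, ← _root_.zpow_add] at h2
    exact h2
  exact absurd (eq_zero_of_zpow h1) (by norm_num)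

variable (D a b) in
/-- two orthogonal long roots -/
structure Pr : Prop where
  cz : CommZ D.cs D.h D.X
  la : Lg D a
  lb : Lg D b
  ab : cpr D.cs D.h a b = 0
  ba : cpr D.cs D.h b a = 0

namespace Pr

variable (h : Pr D a b)
include h

theorem symm : Pr D b a := ⟨h.cz, h.lb, h.la, h.ba, h.ab⟩

theorem comm {u v : Y} (hu : u ∈ D.S {a, -a}) (hv : v ∈ D.S {b, -b}) : u * v = v * u := by
  refine comm_S h.cz ?_ (G2D.rt_pair h.lb.1) ?_ hu hv
  · rintro c (rfl | rfl)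
    exacts [h.la, h.la.neg]
  · rintro c (rfl | rfl) d (rfl | rfl) <;>
      simp only [cpr_neg _ _ _ h.la.1, cpr_neg _ _ _ h.la.1.neg, cpr_neg_right _ _ _ h.la.1, h.ba, neg_zero]

theorem split {y : Y} (hy : y ∈ D.S {a, -a, b, -b}) : ∃ u ∈ D.S {a, -a}, ∃ v ∈ D.S {b, -b}, y = u * v := by
  let K : Subgroup Y :=
    { carrier := {y | ∃ u ∈ D.S {a, -a}, ∃ v ∈ D.S {b, -b}, y = u * v}
      one_mem' := ⟨1, one_mem _, 1, one_mem _, (mul_one _).symm⟩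
      mul_mem' := by
        rintro _ _ ⟨u, hu, v, hv, rfl⟩ ⟨u', hu', v', hv', rfl⟩
        exact ⟨_, mul_mem hu hu', _, mul_mem hv hv', by
          rw [mul_assoc, ← mul_assoc v, ← h.comm hu' hv, mul_assoc, mul_assoc]⟩
      inv_mem' := by
        rintro _ ⟨u, hu, v, hv, rfl⟩
        exact ⟨_, inv_mem hu, _, inv_mem hv, by rw [_root_.mul_inv_rev, h.comm (inv_mem hu) (inv_mem hv)]⟩ }
  refine RGD.Sup_le (K := K) ?_ hy
  rintro c (rfl | rfl | rfl | rfl) u hu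
  · exact ⟨u, RGD.le_Sup (S := {c, -c}) (.inl rfl) hu, 1, one_mem _, (mul_one _).symm⟩
  · exact ⟨u, RGD.le_Sup (S := {a, -a}) (.inr rfl) hu, 1, one_mem _, (mul_one _).symm⟩
  · exact ⟨1, one_mem _, u, RGD.le_Sup (S := {c, -c}) (.inl rfl) hu, (one_mul _).symm⟩
  · exact ⟨1, one_mem _, u, RGD.le_Sup (S := {b, -b}) (.inr rfl) hu, (one_mul _).symm⟩

/-- the elements which centralize both coroot tori -/
theorem eq_ct {y : Y} (hy : y ∈ D.S {a, -a, b, -b}) (h1 : ∀ s, ct D a s * y = y * ct D a s)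
    (h2 : ∀ s, ct D b s * y = y * ct D b s) : ∃ s t, y = ct D a s * ct D b t := by
  obtain ⟨u, hu, v, hv, rfl⟩ := h.split hy
  obtain ⟨s, hs⟩ := X5.eq_ct h.la.1 hu fun s => mul_right_cancel (b := v) (by
    rw [mul_assoc, h1, mul_assoc, mul_assoc, h.comm (ct_S h.la.1 s) hv])
  obtain ⟨t, ht⟩ := X5.eq_ct h.lb.1 hv fun t => mul_left_cancel (a := u) (by
    rw [← mul_assoc, h.comm hu (ct_S h.lb.1 t), mul_assoc, h2, mul_assoc])
  exact ⟨s, t, by rw [hs, ht]⟩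

variable (ga : D.g a = b) (gb : D.g b = -a)
include ga gb

/-- a rational representative of the product of the two reflections -/
theorem exists_x : ∃ x ∈ D.S {a, -a, b, -b}, F x = x ∧ D.Rp (D.rf a * D.rf b) x := by
  obtain ⟨m, hm, h1, h2⟩ := G2D.exists_fix_rf (D := D.pow two_pos) (a := a) h.la.1 (.inr (by
    show D.g (D.g a) = -a
    rw [ga, gb]))
  have h3 : D.Rp (D.rf a) m := h1
  have h4 : F m ∈ D.S {b, -b} := D.F_mem_S (G2D.rt_pair h.la.1) (by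
    rintro c (rfl | rfl)
    · exact .inl ga
    · exact .inr (by rw [D.g_neg h.la.1, ga]; rfl)) hm
  have h5 := h3.mapF
  rw [D.Fw_rf h.la.1, ga] at h5
  refine ⟨m * F m, mul_mem (RGD.Sup_mono ?_ hm) (RGD.Sup_mono ?_ h4), ?_, h3.mul h5⟩
  · rintro c (rfl | rfl) <;> simp
  · rintro c (rfl | rfl) <;> simp
  · rw [map_mul, h.comm hm h4]
    exact congrArg _ h2

/-- the rational involutions of the torus -/
theorem invol (hr : r ≠ 2) {c : D.I → ℤ} (c1 : cpr D.cs D.h c a = 1) (c2 : cpr D.cs D.h c b = 0) {d : D.I → ℤ}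
    (d1 : cpr D.cs D.h d a = 0) (d2 : cpr D.cs D.h d b = 1) {s t : kˣ}
    (hF : F (ct D a s * ct D b t) = ct D a s * ct D b t) (h2 : (ct D a s * ct D b t) ^ 2 = 1) :
    ct D a s * ct D b t = 1 ∨ ct D a s * ct D b t = ct D a (-1) * ct D b (-1) := by
  have h3 := congrArg (D.χ d) hF
  rw [map_mul, F_ct h.la.1, F_ct h.lb.1, ga, gb, ct_neg h.la.1, D.χ_mul _ (ct_mem _ _) (ct_mem _ _),
    D.χ_mul _ (ct_mem _ _) (ct_mem _ _), χ_ct h.la.1, χ_ct h.la.1, χ_ct h.lb.1, χ_ct h.lb.1, d1, d2] at h3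
  simp only [zpow_zero, zpow_one, Units.val_one, mul_one, one_mul, Units.val_inj] at h3
  have h4 := congrArg (D.χ c) h2
  rw [G2D.chi_pow D _ (mul_mem (ct_mem _ _) (ct_mem _ _)), D.χ_mul _ (ct_mem _ _) (ct_mem _ _), χ_ct h.la.1,
    χ_ct h.lb.1, c1, c2, D.χ_one] at h4
  simp only [zpow_zero, zpow_one, Units.val_one, mul_one, sq_eq_one_iff] at h4
  rcases h4 with h4 | h4
  · obtain rfl : s = 1 := Units.ext h4
    rw [one_pow] at h3
    subst h3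
    exact .inl (by simp only [ct, map_one, mul_one])
  · obtain rfl : s = -1 := Units.ext h4
    rw [(((Fact.out : r.Prime).odd_of_ne_two hr).pow).neg_one_pow] at h3
    subst h3
    exact .inr rfl

end Pr

/-! ### the torus spanned by the coroots of a set of roots -/

variable (D) in
/-- the torus spanned by the coroots of `Δ` -/
def TD (Δ : Set (D.I → ℤ)) : Subgroup Y where
  carrier := {t | ∃ x, t = D.τ x ∧ ∀ m : D.R → ℤ, (∀ a ∈ Δ, m ⬝ᵥ D.cor a = 0) → chr m x = 1}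
  one_mem' := ⟨1, (map_one _).symm, fun _ _ => map_one _⟩
  mul_mem' := by
    rintro _ _ ⟨x, rfl, hx⟩ ⟨y, rfl, hy⟩
    exact ⟨x * y, (map_mul _ _ _).symm, fun m hm => by rw [map_mul, hx m hm, hy m hm, mul_one]⟩
  inv_mem' := by
    rintro _ ⟨x, rfl, hx⟩
    exact ⟨x⁻¹, (map_inv _ _).symm, fun m hm => by rw [map_inv, hx m hm, inv_one]⟩

variable {Δ : Set (D.I → ℤ)}

theorem TD_le : TD D Δ ≤ D.T := by
  rintro _ ⟨x, rfl, -⟩
  exact D.τ_mem x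

theorem ct_TD (ha : a ∈ Δ) (s : kˣ) : ct D a s ∈ TD D Δ :=
  ⟨_, rfl, fun m hm => by rw [chr_coch, show ∑ j, m j * D.cor a j = 0 from hm a ha, zpow_zero]⟩

theorem τ_mem_TD {x : D.R → kˣ} :
    D.τ x ∈ TD D Δ ↔ ∀ m : D.R → ℤ, (∀ a ∈ Δ, m ⬝ᵥ D.cor a = 0) → chr m x = 1 :=
  ⟨fun ⟨_, e, h⟩ => D.τ_inj e ▸ h, fun h => ⟨x, rfl, h⟩⟩

theorem mon_TD {x : D.R → kˣ} (hx : D.τ x ∈ TD D Δ) {A : Matrix D.R D.R ℤ} (h : ∀ a ∈ Δ, A *ᵥ D.cor a = 0) :
    mon A x = 1 := funext fun i => τ_mem_TD.1 hx (A i) fun a ha => congrFun (h a ha) i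

theorem mon_mem_TD {x : D.R → kˣ} (hx : D.τ x ∈ TD D Δ) {A : Matrix D.R D.R ℤ}
    (h : ∀ a ∈ Δ, ∃ b ∈ Δ, ∃ n : ℤ, A *ᵥ D.cor a = n • D.cor b) : D.τ (mon A x) ∈ TD D Δ :=
  τ_mem_TD.2 fun m hm => by
    rw [chr_mon]
    refine τ_mem_TD.1 hx _ fun a ha => ?_
    obtain ⟨b, hb, n, e⟩ := h a ha
    rw [← dotProduct_mulVec, e, dotProduct_smul, hm b hb, smul_zero]

/-- the root groups orthogonal to `Δ` centralize the torus -/
theorem comm_TD (hΔ : ∀ a ∈ Δ, D.Rt a) {A : Set (D.I → ℤ)} (hA : ∀ b ∈ A, D.Rt b ∧ ∀ a ∈ Δ, cpr D.cs D.h b a = 0)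
    {c t : Y} (hc : c ∈ D.S A) (ht : t ∈ TD D Δ) : t * c = c * t := by
  refine D.cen_le_centralizer (Z := TD D Δ) TD_le (D.S_le_cen _ (RGD.Sup_mono (S' := D.Sz (TD D Δ))
    (fun b hb => ⟨(hA b hb).1, ?_⟩) hc)) t ht
  rintro _ ⟨x, rfl, hx⟩
  rw [D.χ_τ, hx _ fun a ha => (D.pair_cor (hΔ a ha) b).trans ((hA b hb).2 a ha), Units.val_one]

theorem cor_add (ha : D.Rt a) (hb : D.Rt b) (h1 : cpr D.cs D.h a b = -1) (h2 : cpr D.cs D.h b a = -1) :
    D.cor (a + b) = D.cor a + D.cor b := by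
  have h3 := D.cor_act (D.rf a) hb
  rw [D.act_rf ha, h2, D.Wm_rf ha, sub_mulVec, one_mulVec, vecMulVec_mulVec,
    show D.wt a ⬝ᵥ D.cor b = -1 from (D.pair_cor hb a).trans h1] at h3
  simpa [add_comm] using h3

end Cfsg.Agent.TO.X5
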