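import Cfsg.Agent.TO.X.Iface

/-!
# S4817, exceptional groups, `p = 5` : canonical sections, two boxes (helper34)
-/

set_option autoImplicit false
set_option maxHeartbeats 200000

namespace Cfsg.Agent.TO.X5

open CoxeterSystem Cfsg Cfsg.Lie Cfsg.Lie.ChevalleyDatum Matrix
open Cfsg.Agent.ChevalleyStructure Cfsg.Agent.ChevalleyStructure.Elts Cfsg.Agent.ChevalleyStructure.CoxeterGeom
  Cfsg.Agent.ChevalleyStructure.CoxeterGeomTypes Cfsg.Agent.ChevalleyStructure.NPerm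
open Cfsg.Agent.Tits.Roots Cfsg.Agent.Nodes Cfsg.Agent.Nodes.RGDChev Cfsg.Agent.Nodes.BNOf
open Cfsg.Agent.KFacts.RgdChevCoord Cfsg.Agent.BpExc.TowChev Cfsg.Agent.GpExc.Field Cfsg.Agent.BpExc
  Cfsg.Agent.BpExc.TorChev
open Cfsg.Agent.DL Cfsg.Agent.DL.Ex Cfsg.Agent.KZ.DatX

/-- a canonical section of the cover `σ` over the rational points of `P` whose order divides `m` -/
def Sec {G S Y : Type} [Group G] [Group S] [Group Y] (σ : G →* S) (ι : S →* Y) (F : MulAut Y) (P : Subgroup Y)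
    (m : ℕ) : Prop :=
  ∃ s : Y → G, (∀ x ∈ P, F x = x → x ^ m = 1 → ι (σ (s x)) = x) ∧
    (∀ H : Subgroup Y, (∀ x ∈ H, x ∈ P ∧ F x = x ∧ x ^ m = 1) → ∀ x ∈ H, ∀ y ∈ H, s (x * y) = s x * s y) ∧
    ∀ (α : MulAut G) (β : MulAut Y), (∀ g, ι (σ (α g)) = β (ι (σ g))) → (∀ y, β y ∈ P ↔ y ∈ P) →
      ∀ x ∈ P, F x = x → x ^ m = 1 → α (s x) = s (β x)

/-- the roots of the subsystem `D₄` of `E₇` on the nodes `2, 3, 4, 5` (indices `1, 2, 3, 4`) -/
def Del7 : Set (Fin 7 → ℤ) :=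
  {a | IsRoot CoxeterMatrix.E₇.toCoxeterSystem hpE7.isCartan a ∧ a 0 = 0 ∧ a 5 = 0 ∧ a 6 = 0}

/-- [Sec7] the covers of `E₇(q)`, `q` odd, split canonically over every `F`-stable conjugate of the Levi `D₄` -/
def Box7 : Prop := ∀ (F : Type) [Field F] [Fintype F] (r e : ℕ) [Fact r.Prime] [CharP F r]
  [CharP (AlgebraicClosure F) r], Fintype.card F = r ^ e → r ≠ 2 →
  ∀ (G : Type) [Group G] [Finite G] (σ : G →* ↥(chevE7.group F)), commutator G = ⊤ → Function.Surjective σ →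
    σ.ker = Subgroup.center G → ∀ (y : ↥(chevE7.group (AlgebraicClosure F))) (P : Subgroup _),
      P = Reps.cj y (RGD.Sup (XX chevE7 7 (AlgebraicClosure F)) Del7) → (∀ x ∈ P, frobA hpE7.inList r e x ∈ P) →
      ∀ m : ℕ, Sec σ (emb hpE7.inList (algebraMap F (AlgebraicClosure F))) (frobA hpE7.inList r e) P m

/-- [T2] the group `²E₆(2)` at `p = 5` -/
def BoxT2 : Prop := ∀ (K : Type) [Field K] [Fintype K], Fintype.card K = 4 → Row 5 ↥(twistedE6 K 2)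

end Cfsg.Agent.TO.X5
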