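import Cfsg.Agent.TO.X5.TabB

/-!
# S4817, exceptional groups, `p = 5` : the tables for `F₄`, `E₆`, `E₇` (helper34)
-/

set_option autoImplicit false
set_option maxHeartbeats 200000
set_option maxRecDepth 4000

namespace Cfsg.Agent.TO.X5

open Cfsg Cfsg.Lie Cfsg.Agent.KZ.DatX Cfsg.Agent.DL.Ex

/-- roots, classes, coroots -/
def tF4a : List (List ℤ × ℕ × List ℤ) :=
  [([-2, -4, -3, -2], 10, [0, 0, 0, -1]), ([-2, -4, -3, -1], 24, [0, 0, -1, 1]),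
    ([-2, -4, -2, -1], 23, [0, -1, 1, 0]), ([-2, -3, -2, -1], 20, [-1, 0, 0, 0]),
    ([-2, -2, -2, -1], 22, [-1, 1, -1, 0]), ([-2, -2, -1, -1], 21, [-1, 0, 1, -1]),
    ([-2, -2, -1, 0], 5, [-1, 0, 0, 1]), ([-1, -3, -2, -1], 6, [1, -1, 0, 0]), ([-1, -2, -2, -1], 8, [0, 1, -2, 0]),
    ([-1, -2, -1, -1], 7, [0, -1, 2, -2]), ([-1, -2, -1, 0], 16, [0, -1, 0, 2]),
    ([-1, -1, -1, -1], 9, [-1, 1, 0, -2])]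

/-- roots, classes, coroots -/
def tF4b : List (List ℤ × ℕ × List ℤ) :=
  [([-1, -1, -1, 0], 18, [-1, 1, -2, 2]), ([-1, -1, 0, 0], 17, [-1, -1, 2, 0]), ([-1, 0, 0, 0], 19, [-2, 1, 0, 0]),
    ([0, -2, -2, -1], 19, [1, 0, -1, 0]), ([0, -2, -1, -1], 18, [1, -1, 1, -1]), ([0, -2, -1, 0], 2, [1, -1, 0, 1]),
    ([0, -1, -1, -1], 15, [1, 0, 0, -2]), ([0, -1, -1, 0], 4, [1, 0, -2, 2]), ([0, -1, 0, 0], 3, [1, -2, 2, 0]),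
    ([0, 0, -1, -1], 17, [0, 1, -1, -1]), ([0, 0, -1, 0], 1, [0, 1, -2, 1]), ([0, 0, 0, -1], 16, [0, 0, 1, -2])]

/-- roots, classes, coroots -/
def tF4c : List (List ℤ × ℕ × List ℤ) :=
  [([0, 0, 0, 1], 14, [0, 0, -1, 2]), ([0, 0, 1, 0], 4, [0, -1, 2, -1]), ([0, 0, 1, 1], 13, [0, -1, 1, 1]),
    ([0, 1, 0, 0], 2, [-1, 2, -2, 0]), ([0, 1, 1, 0], 1, [-1, 0, 2, -2]), ([0, 1, 1, 1], 10, [-1, 0, 0, 2]),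
    ([0, 2, 1, 0], 3, [-1, 1, 0, -1]), ([0, 2, 1, 1], 12, [-1, 1, -1, 1]), ([0, 2, 2, 1], 11, [-1, 0, 1, 0]),
    ([1, 0, 0, 0], 11, [2, -1, 0, 0]), ([1, 1, 0, 0], 13, [1, 1, -2, 0]), ([1, 1, 1, 0], 12, [1, -1, 2, -2])]

/-- roots, classes, coroots -/
def tF4d : List (List ℤ × ℕ × List ℤ) :=
  [([1, 1, 1, 1], 21, [1, -1, 0, 2]), ([1, 2, 1, 0], 14, [0, 1, 0, -2]), ([1, 2, 1, 1], 23, [0, 1, -2, 2]),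
    ([1, 2, 2, 1], 22, [0, -1, 2, 0]), ([1, 3, 2, 1], 24, [-1, 1, 0, 0]), ([2, 2, 1, 0], 20, [1, 0, 0, -1]),
    ([2, 2, 1, 1], 9, [1, 0, -1, 1]), ([2, 2, 2, 1], 8, [1, -1, 1, 0]), ([2, 3, 2, 1], 5, [1, 0, 0, 0]),
    ([2, 4, 2, 1], 7, [0, 1, -1, 0]), ([2, 4, 3, 1], 6, [0, 0, 1, -1]), ([2, 4, 3, 2], 15, [0, 0, 0, 1])]

/-- roots, classes, coroots -/
def tF4 : List (List ℤ × ℕ × List ℤ) :=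
  List.flatten [tF4a, tF4b, tF4c, tF4d]

/-- the roots and coroots of `D₄` -/
def rF4a : List (List ℤ × List ℤ) :=
  [([0, 0, 0, 0], [0, 0, 0, 0]), ([0, 0, -1, 0], [0, 1, -2, 1]), ([0, -2, -1, 0], [1, -1, 0, 1]),
    ([0, 2, 1, 0], [-1, 1, 0, -1]), ([0, 0, 1, 0], [0, -1, 2, -1]), ([-2, -2, -1, 0], [-1, 0, 0, 1]),
    ([2, 4, 3, 1], [0, 0, 1, -1]), ([2, 4, 2, 1], [0, 1, -1, 0]), ([2, 2, 2, 1], [1, -1, 1, 0]),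
    ([2, 2, 1, 1], [1, 0, -1, 1]), ([-2, -4, -3, -2], [0, 0, 0, -1]), ([0, 2, 2, 1], [-1, 0, 1, 0])]

/-- the roots and coroots of `D₄` -/
def rF4b : List (List ℤ × List ℤ) :=
  [([0, 2, 1, 1], [-1, 1, -1, 1]), ([0, 0, 1, 1], [0, -1, 1, 1]), ([0, 0, 0, 1], [0, 0, -1, 2]),
    ([2, 4, 3, 2], [0, 0, 0, 1]), ([0, 0, 0, -1], [0, 0, 1, -2]), ([0, 0, -1, -1], [0, 1, -1, -1]),
    ([0, -2, -1, -1], [1, -1, 1, -1]), ([0, -2, -2, -1], [1, 0, -1, 0]), ([2, 2, 1, 0], [1, 0, 0, -1]),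
    ([-2, -2, -1, -1], [-1, 0, 1, -1]), ([-2, -2, -2, -1], [-1, 1, -1, 0]), ([-2, -4, -2, -1], [0, -1, 1, 0]),
    ([-2, -4, -3, -1], [0, 0, -1, 1])]

theorem ckF4 : Ck chevF4 4 ![1, 1, 2, 2] [[2, -1, 0, 0], [-1, 2, -2, 0], [0, -2, 4, -2], [0, 0, -2, 4]]
    [2, 0, 0, 2] [1, 2, 4, 4] tF4 (rF4a ++ rF4b) where
  sym := by decide +kernel
  ne := by decide +kernel
  mat := by decide +kernel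
  len := by decide +kernel
  rts := by decide +kernel
  tab := by decide +kernel
  mem := by decide +kernel
  gram := by decide +kernel
  neg := by decide +kernel
  add := by decide +kernel
  chr := by decide +kernel
  long := by decide +kernel
  psi := by decide +kernel
  sep := by decide +kernel
  par := by decide +kernel

/-- the roots of `D₄` -/
def rtF4 (a : P5) : Fin 4 → ℤ := fl 4 (gt (rF4a ++ rF4b) (cd a)).1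

theorem tbF4 : Tb hpF4 ![2, 0, 0, 2] ![1, 2, 4, 4] rtF4 := by
  have h := ckF4.tb hpF4
  rwa [show (fun i => (fl 4 [2, 0, 0, 2] i : ZMod 5)) = ![2, 0, 0, 2] by decide +kernel,
    show (fun i => (fl 4 [1, 2, 4, 4] i : ZMod 5)) = ![1, 2, 4, 4] by decide +kernel] at h

/-- roots, classes, coroots -/
def tE6a : List (List ℤ × ℕ × List ℤ) :=
  [([-1, -2, -2, -3, -2, -1], 6, [0, -1, 0, 0, 0, 0]), ([-1, -1, -2, -3, -2, -1], 9, [0, 1, 0, -1, 0, 0]),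
    ([-1, -1, -2, -2, -2, -1], 18, [0, 0, -1, 1, -1, 0]), ([-1, -1, -2, -2, -1, -1], 17, [0, 0, -1, 0, 1, -1]),
    ([-1, -1, -2, -2, -1, 0], 20, [0, 0, -1, 0, 0, 1]), ([-1, -1, -1, -2, -2, -1], 13, [-1, 0, 1, 0, -1, 0]),
    ([-1, -1, -1, -2, -1, -1], 12, [-1, 0, 1, -1, 1, -1]), ([-1, -1, -1, -2, -1, 0], 15, [-1, 0, 1, -1, 0, 1]),
    ([-1, -1, -1, -1, -1, -1], 21, [-1, -1, 0, 1, 0, -1]), ([-1, -1, -1, -1, -1, 0], 4, [-1, -1, 0, 1, -1, 1]),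
    ([-1, -1, -1, -1, 0, 0], 3, [-1, -1, 0, 0, 1, 0]), ([-1, 0, -1, -1, -1, -1], 24, [-1, 1, 0, 0, 0, -1])]

/-- roots, classes, coroots -/
def tE6b : List (List ℤ × ℕ × List ℤ) :=
  [([-1, 0, -1, -1, -1, 0], 2, [-1, 1, 0, 0, -1, 1]), ([-1, 0, -1, -1, 0, 0], 1, [-1, 1, 0, -1, 1, 0]),
    ([-1, 0, -1, 0, 0, 0], 10, [-1, 0, -1, 1, 0, 0]), ([-1, 0, 0, 0, 0, 0], 5, [-2, 0, 1, 0, 0, 0]),
    ([0, -1, -1, -2, -2, -1], 8, [1, 0, 0, 0, -1, 0]), ([0, -1, -1, -2, -1, -1], 7, [1, 0, 0, -1, 1, -1]),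
    ([0, -1, -1, -2, -1, 0], 10, [1, 0, 0, -1, 0, 1]), ([0, -1, -1, -1, -1, -1], 16, [1, -1, -1, 1, 0, -1]),
    ([0, -1, -1, -1, -1, 0], 24, [1, -1, -1, 1, -1, 1]), ([0, -1, -1, -1, 0, 0], 23, [1, -1, -1, 0, 1, 0]),
    ([0, -1, 0, -1, -1, -1], 11, [0, -1, 1, 0, 0, -1]), ([0, -1, 0, -1, -1, 0], 19, [0, -1, 1, 0, -1, 1])]

/-- roots, classes, coroots -/
def tE6c : List (List ℤ × ℕ × List ℤ) :=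
  [([0, -1, 0, -1, 0, 0], 18, [0, -1, 1, -1, 1, 0]), ([0, -1, 0, 0, 0, 0], 2, [0, -2, 0, 1, 0, 0]),
    ([0, 0, -1, -1, -1, -1], 19, [1, 1, -1, 0, 0, -1]), ([0, 0, -1, -1, -1, 0], 22, [1, 1, -1, 0, -1, 1]),
    ([0, 0, -1, -1, 0, 0], 21, [1, 1, -1, -1, 1, 0]), ([0, 0, -1, 0, 0, 0], 5, [1, 0, -2, 1, 0, 0]),
    ([0, 0, 0, -1, -1, -1], 14, [0, 1, 1, -1, 0, -1]), ([0, 0, 0, -1, -1, 0], 17, [0, 1, 1, -1, -1, 1]),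
    ([0, 0, 0, -1, 0, 0], 16, [0, 1, 1, -2, 1, 0]), ([0, 0, 0, 0, -1, -1], 23, [0, 0, 0, 1, -1, -1]),
    ([0, 0, 0, 0, -1, 0], 1, [0, 0, 0, 1, -2, 1]), ([0, 0, 0, 0, 0, -1], 22, [0, 0, 0, 0, 1, -2])]

/-- roots, classes, coroots -/
def tE6d : List (List ℤ × ℕ × List ℤ) :=
  [([0, 0, 0, 0, 0, 1], 8, [0, 0, 0, 0, -1, 2]), ([0, 0, 0, 0, 1, 0], 4, [0, 0, 0, -1, 2, -1]),
    ([0, 0, 0, 0, 1, 1], 7, [0, 0, 0, -1, 1, 1]), ([0, 0, 0, 1, 0, 0], 14, [0, -1, -1, 2, -1, 0]),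
    ([0, 0, 0, 1, 1, 0], 13, [0, -1, -1, 1, 1, -1]), ([0, 0, 0, 1, 1, 1], 16, [0, -1, -1, 1, 0, 1]),
    ([0, 0, 1, 0, 0, 0], 20, [-1, 0, 2, -1, 0, 0]), ([0, 0, 1, 1, 0, 0], 9, [-1, -1, 1, 1, -1, 0]),
    ([0, 0, 1, 1, 1, 0], 8, [-1, -1, 1, 0, 1, -1]), ([0, 0, 1, 1, 1, 1], 11, [-1, -1, 1, 0, 0, 1]),
    ([0, 1, 0, 0, 0, 0], 3, [0, 2, 0, -1, 0, 0]), ([0, 1, 0, 1, 0, 0], 12, [0, 1, -1, 1, -1, 0])]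

/-- roots, classes, coroots -/
def tE6e : List (List ℤ × ℕ × List ℤ) :=
  [([0, 1, 0, 1, 1, 0], 11, [0, 1, -1, 0, 1, -1]), ([0, 1, 0, 1, 1, 1], 19, [0, 1, -1, 0, 0, 1]),
    ([0, 1, 1, 1, 0, 0], 7, [-1, 1, 1, 0, -1, 0]), ([0, 1, 1, 1, 1, 0], 6, [-1, 1, 1, -1, 1, -1]),
    ([0, 1, 1, 1, 1, 1], 14, [-1, 1, 1, -1, 0, 1]), ([0, 1, 1, 2, 1, 0], 15, [-1, 0, 0, 1, 0, -1]),
    ([0, 1, 1, 2, 1, 1], 23, [-1, 0, 0, 1, -1, 1]), ([0, 1, 1, 2, 2, 1], 22, [-1, 0, 0, 0, 1, 0]),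
    ([1, 0, 0, 0, 0, 0], 20, [2, 0, -1, 0, 0, 0]), ([1, 0, 1, 0, 0, 0], 15, [1, 0, 1, -1, 0, 0]),
    ([1, 0, 1, 1, 0, 0], 4, [1, -1, 0, 1, -1, 0]), ([1, 0, 1, 1, 1, 0], 3, [1, -1, 0, 0, 1, -1])]

/-- roots, classes, coroots -/
def tE6f : List (List ℤ × ℕ × List ℤ) :=
  [([1, 0, 1, 1, 1, 1], 6, [1, -1, 0, 0, 0, 1]), ([1, 1, 1, 1, 0, 0], 2, [1, 1, 0, 0, -1, 0]),
    ([1, 1, 1, 1, 1, 0], 1, [1, 1, 0, -1, 1, -1]), ([1, 1, 1, 1, 1, 1], 9, [1, 1, 0, -1, 0, 1]),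
    ([1, 1, 1, 2, 1, 0], 10, [1, 0, -1, 1, 0, -1]), ([1, 1, 1, 2, 1, 1], 18, [1, 0, -1, 1, -1, 1]),
    ([1, 1, 1, 2, 2, 1], 17, [1, 0, -1, 0, 1, 0]), ([1, 1, 2, 2, 1, 0], 5, [0, 0, 1, 0, 0, -1]),
    ([1, 1, 2, 2, 1, 1], 13, [0, 0, 1, 0, -1, 1]), ([1, 1, 2, 2, 2, 1], 12, [0, 0, 1, -1, 1, 0]),
    ([1, 1, 2, 3, 2, 1], 21, [0, -1, 0, 1, 0, 0]), ([1, 2, 2, 3, 2, 1], 24, [0, 1, 0, 0, 0, 0])]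

/-- roots, classes, coroots -/
def tE6 : List (List ℤ × ℕ × List ℤ) :=
  List.flatten [tE6a, tE6b, tE6c, tE6d, tE6e, tE6f]

/-- the roots and coroots of `D₄` -/
def rE6a : List (List ℤ × List ℤ) :=
  [([0, 0, 0, 0, 0, 0], [0, 0, 0, 0, 0, 0]), ([0, 0, 0, 0, -1, 0], [0, 0, 0, 1, -2, 1]),
    ([0, -1, 0, 0, 0, 0], [0, -2, 0, 1, 0, 0]), ([0, 1, 0, 0, 0, 0], [0, 2, 0, -1, 0, 0]),
    ([0, 0, 0, 0, 1, 0], [0, 0, 0, -1, 2, -1]), ([0, 0, -1, 0, 0, 0], [1, 0, -2, 1, 0, 0]),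
    ([0, 1, 1, 1, 1, 0], [-1, 1, 1, -1, 1, -1]), ([0, 1, 1, 1, 0, 0], [-1, 1, 1, 0, -1, 0]),
    ([0, 0, 1, 1, 1, 0], [-1, -1, 1, 0, 1, -1]), ([0, 0, 1, 1, 0, 0], [-1, -1, 1, 1, -1, 0]),
    ([0, -1, -1, -2, -1, 0], [1, 0, 0, -1, 0, 1]), ([0, 1, 0, 1, 1, 0], [0, 1, -1, 0, 1, -1])]

/-- the roots and coroots of `D₄` -/
def rE6b : List (List ℤ × List ℤ) :=
  [([0, 1, 0, 1, 0, 0], [0, 1, -1, 1, -1, 0]), ([0, 0, 0, 1, 1, 0], [0, -1, -1, 1, 1, -1]),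
    ([0, 0, 0, 1, 0, 0], [0, -1, -1, 2, -1, 0]), ([0, 1, 1, 2, 1, 0], [-1, 0, 0, 1, 0, -1]),
    ([0, 0, 0, -1, 0, 0], [0, 1, 1, -2, 1, 0]), ([0, 0, 0, -1, -1, 0], [0, 1, 1, -1, -1, 1]),
    ([0, -1, 0, -1, 0, 0], [0, -1, 1, -1, 1, 0]), ([0, -1, 0, -1, -1, 0], [0, -1, 1, 0, -1, 1]),
    ([0, 0, 1, 0, 0, 0], [-1, 0, 2, -1, 0, 0]), ([0, 0, -1, -1, 0, 0], [1, 1, -1, -1, 1, 0]),
    ([0, 0, -1, -1, -1, 0], [1, 1, -1, 0, -1, 1]), ([0, -1, -1, -1, 0, 0], [1, -1, -1, 0, 1, 0]),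
    ([0, -1, -1, -1, -1, 0], [1, -1, -1, 1, -1, 1])]

theorem ckE6 : Ck chevE6 6 ![1, 1, 1, 1, 1, 1] [[2, 0, -1, 0, 0, 0], [0, 2, 0, -1, 0, 0], [-1, 0, 2, -1, 0, 0], [0, -1, -1, 2, -1, 0], [0, 0, 0, -1, 2, -1],
    [0, 0, 0, 0, -1, 2]]
    [4, 0, 4, 2, 0, 1] [0, 3, 0, 4, 4, 3] tE6 (rE6a ++ rE6b) where
  sym := by decide +kernel
  ne := by decide +kernel
  mat := by decide +kernel
  len := by decide +kernel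
  rts := by decide +kernel
  tab := by decide +kernel
  mem := by decide +kernel
  gram := by decide +kernel
  neg := by decide +kernel
  add := by decide +kernel
  chr := by decide +kernel
  long := by decide +kernel
  psi := by decide +kernel
  sep := by decide +kernel
  par := by decide +kernel

/-- the roots of `D₄` -/
def rtE6 (a : P5) : Fin 6 → ℤ := fl 6 (gt (rE6a ++ rE6b) (cd a)).1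

theorem tbE6 : Tb hpE6 ![4, 0, 4, 2, 0, 1] ![0, 3, 0, 4, 4, 3] rtE6 := by
  have h := ckE6.tb hpE6
  rwa [show (fun i => (fl 6 [4, 0, 4, 2, 0, 1] i : ZMod 5)) = ![4, 0, 4, 2, 0, 1] by decide +kernel,
    show (fun i => (fl 6 [0, 3, 0, 4, 4, 3] i : ZMod 5)) = ![0, 3, 0, 4, 4, 3] by decide +kernel] at h

/-- roots, classes, coroots -/
def tE7a : List (List ℤ × ℕ × List ℤ) :=
  [([-2, -2, -3, -4, -3, -2, -1], 0, [-1, 0, 0, 0, 0, 0, 0]),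
    ([-1, -2, -3, -4, -3, -2, -1], 20, [1, 0, -1, 0, 0, 0, 0]),
    ([-1, -2, -2, -4, -3, -2, -1], 15, [0, 0, 1, -1, 0, 0, 0]),
    ([-1, -2, -2, -3, -3, -2, -1], 4, [0, -1, 0, 1, -1, 0, 0]),
    ([-1, -2, -2, -3, -2, -2, -1], 3, [0, -1, 0, 0, 1, -1, 0]),
    ([-1, -2, -2, -3, -2, -1, -1], 6, [0, -1, 0, 0, 0, 1, -1]),
    ([-1, -2, -2, -3, -2, -1, 0], 6, [0, -1, 0, 0, 0, 0, 1]),
    ([-1, -1, -2, -3, -3, -2, -1], 2, [0, 1, 0, 0, -1, 0, 0]),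
    ([-1, -1, -2, -3, -2, -2, -1], 1, [0, 1, 0, -1, 1, -1, 0]),
    ([-1, -1, -2, -3, -2, -1, -1], 9, [0, 1, 0, -1, 0, 1, -1]),
    ([-1, -1, -2, -3, -2, -1, 0], 9, [0, 1, 0, -1, 0, 0, 1]),
    ([-1, -1, -2, -2, -2, -2, -1], 10, [0, 0, -1, 1, 0, -1, 0])]

/-- roots, classes, coroots -/
def tE7b : List (List ℤ × ℕ × List ℤ) :=
  [([-1, -1, -2, -2, -2, -1, -1], 18, [0, 0, -1, 1, -1, 1, -1]),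
    ([-1, -1, -2, -2, -2, -1, 0], 18, [0, 0, -1, 1, -1, 0, 1]),
    ([-1, -1, -2, -2, -1, -1, -1], 17, [0, 0, -1, 0, 1, 0, -1]),
    ([-1, -1, -2, -2, -1, -1, 0], 17, [0, 0, -1, 0, 1, -1, 1]),
    ([-1, -1, -2, -2, -1, 0, 0], 20, [0, 0, -1, 0, 0, 1, 0]),
    ([-1, -1, -1, -2, -2, -2, -1], 5, [-1, 0, 1, 0, 0, -1, 0]),
    ([-1, -1, -1, -2, -2, -1, -1], 13, [-1, 0, 1, 0, -1, 1, -1]),
    ([-1, -1, -1, -2, -2, -1, 0], 13, [-1, 0, 1, 0, -1, 0, 1]),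
    ([-1, -1, -1, -2, -1, -1, -1], 12, [-1, 0, 1, -1, 1, 0, -1]),
    ([-1, -1, -1, -2, -1, -1, 0], 12, [-1, 0, 1, -1, 1, -1, 1]),
    ([-1, -1, -1, -2, -1, 0, 0], 15, [-1, 0, 1, -1, 0, 1, 0]),
    ([-1, -1, -1, -1, -1, -1, -1], 21, [-1, -1, 0, 1, 0, 0, -1])]

/-- roots, classes, coroots -/
def tE7c : List (List ℤ × ℕ × List ℤ) :=
  [([-1, -1, -1, -1, -1, -1, 0], 21, [-1, -1, 0, 1, 0, -1, 1]),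
    ([-1, -1, -1, -1, -1, 0, 0], 4, [-1, -1, 0, 1, -1, 1, 0]),
    ([-1, -1, -1, -1, 0, 0, 0], 3, [-1, -1, 0, 0, 1, 0, 0]),
    ([-1, 0, -1, -1, -1, -1, -1], 24, [-1, 1, 0, 0, 0, 0, -1]),
    ([-1, 0, -1, -1, -1, -1, 0], 24, [-1, 1, 0, 0, 0, -1, 1]),
    ([-1, 0, -1, -1, -1, 0, 0], 2, [-1, 1, 0, 0, -1, 1, 0]), ([-1, 0, -1, -1, 0, 0, 0], 1, [-1, 1, 0, -1, 1, 0, 0]),
    ([-1, 0, -1, 0, 0, 0, 0], 10, [-1, 0, -1, 1, 0, 0, 0]), ([-1, 0, 0, 0, 0, 0, 0], 5, [-2, 0, 1, 0, 0, 0, 0]),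
    ([0, -1, -1, -2, -2, -2, -1], 0, [1, 0, 0, 0, 0, -1, 0]),
    ([0, -1, -1, -2, -2, -1, -1], 8, [1, 0, 0, 0, -1, 1, -1]),
    ([0, -1, -1, -2, -2, -1, 0], 8, [1, 0, 0, 0, -1, 0, 1])]

/-- roots, classes, coroots -/
def tE7d : List (List ℤ × ℕ × List ℤ) :=
  [([0, -1, -1, -2, -1, -1, -1], 7, [1, 0, 0, -1, 1, 0, -1]),
    ([0, -1, -1, -2, -1, -1, 0], 7, [1, 0, 0, -1, 1, -1, 1]),
    ([0, -1, -1, -2, -1, 0, 0], 10, [1, 0, 0, -1, 0, 1, 0]),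
    ([0, -1, -1, -1, -1, -1, -1], 16, [1, -1, -1, 1, 0, 0, -1]),
    ([0, -1, -1, -1, -1, -1, 0], 16, [1, -1, -1, 1, 0, -1, 1]),
    ([0, -1, -1, -1, -1, 0, 0], 24, [1, -1, -1, 1, -1, 1, 0]),
    ([0, -1, -1, -1, 0, 0, 0], 23, [1, -1, -1, 0, 1, 0, 0]),
    ([0, -1, 0, -1, -1, -1, -1], 11, [0, -1, 1, 0, 0, 0, -1]),
    ([0, -1, 0, -1, -1, -1, 0], 11, [0, -1, 1, 0, 0, -1, 1]),
    ([0, -1, 0, -1, -1, 0, 0], 19, [0, -1, 1, 0, -1, 1, 0]), ([0, -1, 0, -1, 0, 0, 0], 18, [0, -1, 1, -1, 1, 0, 0]),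
    ([0, -1, 0, 0, 0, 0, 0], 2, [0, -2, 0, 1, 0, 0, 0])]

/-- roots, classes, coroots -/
def tE7e : List (List ℤ × ℕ × List ℤ) :=
  [([0, 0, -1, -1, -1, -1, -1], 19, [1, 1, -1, 0, 0, 0, -1]),
    ([0, 0, -1, -1, -1, -1, 0], 19, [1, 1, -1, 0, 0, -1, 1]),
    ([0, 0, -1, -1, -1, 0, 0], 22, [1, 1, -1, 0, -1, 1, 0]), ([0, 0, -1, -1, 0, 0, 0], 21, [1, 1, -1, -1, 1, 0, 0]),
    ([0, 0, -1, 0, 0, 0, 0], 5, [1, 0, -2, 1, 0, 0, 0]), ([0, 0, 0, -1, -1, -1, -1], 14, [0, 1, 1, -1, 0, 0, -1]),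
    ([0, 0, 0, -1, -1, -1, 0], 14, [0, 1, 1, -1, 0, -1, 1]), ([0, 0, 0, -1, -1, 0, 0], 17, [0, 1, 1, -1, -1, 1, 0]),
    ([0, 0, 0, -1, 0, 0, 0], 16, [0, 1, 1, -2, 1, 0, 0]), ([0, 0, 0, 0, -1, -1, -1], 23, [0, 0, 0, 1, -1, 0, -1]),
    ([0, 0, 0, 0, -1, -1, 0], 23, [0, 0, 0, 1, -1, -1, 1]), ([0, 0, 0, 0, -1, 0, 0], 1, [0, 0, 0, 1, -2, 1, 0])]

/-- roots, classes, coroots -/
def tE7f : List (List ℤ × ℕ × List ℤ) :=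
  [([0, 0, 0, 0, 0, -1, -1], 22, [0, 0, 0, 0, 1, -1, -1]), ([0, 0, 0, 0, 0, -1, 0], 22, [0, 0, 0, 0, 1, -2, 1]),
    ([0, 0, 0, 0, 0, 0, -1], 0, [0, 0, 0, 0, 0, 1, -2]), ([0, 0, 0, 0, 0, 0, 1], 0, [0, 0, 0, 0, 0, -1, 2]),
    ([0, 0, 0, 0, 0, 1, 0], 8, [0, 0, 0, 0, -1, 2, -1]), ([0, 0, 0, 0, 0, 1, 1], 8, [0, 0, 0, 0, -1, 1, 1]),
    ([0, 0, 0, 0, 1, 0, 0], 4, [0, 0, 0, -1, 2, -1, 0]), ([0, 0, 0, 0, 1, 1, 0], 7, [0, 0, 0, -1, 1, 1, -1]),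
    ([0, 0, 0, 0, 1, 1, 1], 7, [0, 0, 0, -1, 1, 0, 1]), ([0, 0, 0, 1, 0, 0, 0], 14, [0, -1, -1, 2, -1, 0, 0]),
    ([0, 0, 0, 1, 1, 0, 0], 13, [0, -1, -1, 1, 1, -1, 0]), ([0, 0, 0, 1, 1, 1, 0], 16, [0, -1, -1, 1, 0, 1, -1])]

/-- roots, classes, coroots -/
def tE7g : List (List ℤ × ℕ × List ℤ) :=
  [([0, 0, 0, 1, 1, 1, 1], 16, [0, -1, -1, 1, 0, 0, 1]), ([0, 0, 1, 0, 0, 0, 0], 20, [-1, 0, 2, -1, 0, 0, 0]),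
    ([0, 0, 1, 1, 0, 0, 0], 9, [-1, -1, 1, 1, -1, 0, 0]), ([0, 0, 1, 1, 1, 0, 0], 8, [-1, -1, 1, 0, 1, -1, 0]),
    ([0, 0, 1, 1, 1, 1, 0], 11, [-1, -1, 1, 0, 0, 1, -1]), ([0, 0, 1, 1, 1, 1, 1], 11, [-1, -1, 1, 0, 0, 0, 1]),
    ([0, 1, 0, 0, 0, 0, 0], 3, [0, 2, 0, -1, 0, 0, 0]), ([0, 1, 0, 1, 0, 0, 0], 12, [0, 1, -1, 1, -1, 0, 0]),
    ([0, 1, 0, 1, 1, 0, 0], 11, [0, 1, -1, 0, 1, -1, 0]), ([0, 1, 0, 1, 1, 1, 0], 19, [0, 1, -1, 0, 0, 1, -1]),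
    ([0, 1, 0, 1, 1, 1, 1], 19, [0, 1, -1, 0, 0, 0, 1]), ([0, 1, 1, 1, 0, 0, 0], 7, [-1, 1, 1, 0, -1, 0, 0])]

/-- roots, classes, coroots -/
def tE7h : List (List ℤ × ℕ × List ℤ) :=
  [([0, 1, 1, 1, 1, 0, 0], 6, [-1, 1, 1, -1, 1, -1, 0]), ([0, 1, 1, 1, 1, 1, 0], 14, [-1, 1, 1, -1, 0, 1, -1]),
    ([0, 1, 1, 1, 1, 1, 1], 14, [-1, 1, 1, -1, 0, 0, 1]), ([0, 1, 1, 2, 1, 0, 0], 15, [-1, 0, 0, 1, 0, -1, 0]),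
    ([0, 1, 1, 2, 1, 1, 0], 23, [-1, 0, 0, 1, -1, 1, -1]), ([0, 1, 1, 2, 1, 1, 1], 23, [-1, 0, 0, 1, -1, 0, 1]),
    ([0, 1, 1, 2, 2, 1, 0], 22, [-1, 0, 0, 0, 1, 0, -1]), ([0, 1, 1, 2, 2, 1, 1], 22, [-1, 0, 0, 0, 1, -1, 1]),
    ([0, 1, 1, 2, 2, 2, 1], 0, [-1, 0, 0, 0, 0, 1, 0]), ([1, 0, 0, 0, 0, 0, 0], 20, [2, 0, -1, 0, 0, 0, 0]),
    ([1, 0, 1, 0, 0, 0, 0], 15, [1, 0, 1, -1, 0, 0, 0]), ([1, 0, 1, 1, 0, 0, 0], 4, [1, -1, 0, 1, -1, 0, 0])]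

/-- roots, classes, coroots -/
def tE7i : List (List ℤ × ℕ × List ℤ) :=
  [([1, 0, 1, 1, 1, 0, 0], 3, [1, -1, 0, 0, 1, -1, 0]), ([1, 0, 1, 1, 1, 1, 0], 6, [1, -1, 0, 0, 0, 1, -1]),
    ([1, 0, 1, 1, 1, 1, 1], 6, [1, -1, 0, 0, 0, 0, 1]), ([1, 1, 1, 1, 0, 0, 0], 2, [1, 1, 0, 0, -1, 0, 0]),
    ([1, 1, 1, 1, 1, 0, 0], 1, [1, 1, 0, -1, 1, -1, 0]), ([1, 1, 1, 1, 1, 1, 0], 9, [1, 1, 0, -1, 0, 1, -1]),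
    ([1, 1, 1, 1, 1, 1, 1], 9, [1, 1, 0, -1, 0, 0, 1]), ([1, 1, 1, 2, 1, 0, 0], 10, [1, 0, -1, 1, 0, -1, 0]),
    ([1, 1, 1, 2, 1, 1, 0], 18, [1, 0, -1, 1, -1, 1, -1]), ([1, 1, 1, 2, 1, 1, 1], 18, [1, 0, -1, 1, -1, 0, 1]),
    ([1, 1, 1, 2, 2, 1, 0], 17, [1, 0, -1, 0, 1, 0, -1]), ([1, 1, 1, 2, 2, 1, 1], 17, [1, 0, -1, 0, 1, -1, 1])]

/-- roots, classes, coroots -/
def tE7j : List (List ℤ × ℕ × List ℤ) :=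
  [([1, 1, 1, 2, 2, 2, 1], 20, [1, 0, -1, 0, 0, 1, 0]), ([1, 1, 2, 2, 1, 0, 0], 5, [0, 0, 1, 0, 0, -1, 0]),
    ([1, 1, 2, 2, 1, 1, 0], 13, [0, 0, 1, 0, -1, 1, -1]), ([1, 1, 2, 2, 1, 1, 1], 13, [0, 0, 1, 0, -1, 0, 1]),
    ([1, 1, 2, 2, 2, 1, 0], 12, [0, 0, 1, -1, 1, 0, -1]), ([1, 1, 2, 2, 2, 1, 1], 12, [0, 0, 1, -1, 1, -1, 1]),
    ([1, 1, 2, 2, 2, 2, 1], 15, [0, 0, 1, -1, 0, 1, 0]), ([1, 1, 2, 3, 2, 1, 0], 21, [0, -1, 0, 1, 0, 0, -1]),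
    ([1, 1, 2, 3, 2, 1, 1], 21, [0, -1, 0, 1, 0, -1, 1]), ([1, 1, 2, 3, 2, 2, 1], 4, [0, -1, 0, 1, -1, 1, 0]),
    ([1, 1, 2, 3, 3, 2, 1], 3, [0, -1, 0, 0, 1, 0, 0]), ([1, 2, 2, 3, 2, 1, 0], 24, [0, 1, 0, 0, 0, 0, -1])]

/-- roots, classes, coroots -/
def tE7k : List (List ℤ × ℕ × List ℤ) :=
  [([1, 2, 2, 3, 2, 1, 1], 24, [0, 1, 0, 0, 0, -1, 1]), ([1, 2, 2, 3, 2, 2, 1], 2, [0, 1, 0, 0, -1, 1, 0]),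
    ([1, 2, 2, 3, 3, 2, 1], 1, [0, 1, 0, -1, 1, 0, 0]), ([1, 2, 2, 4, 3, 2, 1], 10, [0, 0, -1, 1, 0, 0, 0]),
    ([1, 2, 3, 4, 3, 2, 1], 5, [-1, 0, 1, 0, 0, 0, 0]), ([2, 2, 3, 4, 3, 2, 1], 0, [1, 0, 0, 0, 0, 0, 0])]

/-- roots, classes, coroots -/
def tE7 : List (List ℤ × ℕ × List ℤ) :=
  List.flatten [tE7a, tE7b, tE7c, tE7d, tE7e, tE7f, tE7g, tE7h, tE7i, tE7j, tE7k]

/-- the roots and coroots of `D₄` -/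
def rE7a : List (List ℤ × List ℤ) :=
  [([0, 0, 0, 0, 0, 0, 0], [0, 0, 0, 0, 0, 0, 0]), ([0, 0, 0, 0, -1, 0, 0], [0, 0, 0, 1, -2, 1, 0]),
    ([0, -1, 0, 0, 0, 0, 0], [0, -2, 0, 1, 0, 0, 0]), ([0, 1, 0, 0, 0, 0, 0], [0, 2, 0, -1, 0, 0, 0]),
    ([0, 0, 0, 0, 1, 0, 0], [0, 0, 0, -1, 2, -1, 0]), ([0, 0, -1, 0, 0, 0, 0], [1, 0, -2, 1, 0, 0, 0]),
    ([0, 1, 1, 1, 1, 0, 0], [-1, 1, 1, -1, 1, -1, 0]), ([0, 1, 1, 1, 0, 0, 0], [-1, 1, 1, 0, -1, 0, 0]),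
    ([0, 0, 1, 1, 1, 0, 0], [-1, -1, 1, 0, 1, -1, 0]), ([0, 0, 1, 1, 0, 0, 0], [-1, -1, 1, 1, -1, 0, 0]),
    ([0, -1, -1, -2, -1, 0, 0], [1, 0, 0, -1, 0, 1, 0]), ([0, 1, 0, 1, 1, 0, 0], [0, 1, -1, 0, 1, -1, 0])]

/-- the roots and coroots of `D₄` -/
def rE7b : List (List ℤ × List ℤ) :=
  [([0, 1, 0, 1, 0, 0, 0], [0, 1, -1, 1, -1, 0, 0]), ([0, 0, 0, 1, 1, 0, 0], [0, -1, -1, 1, 1, -1, 0]),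
    ([0, 0, 0, 1, 0, 0, 0], [0, -1, -1, 2, -1, 0, 0]), ([0, 1, 1, 2, 1, 0, 0], [-1, 0, 0, 1, 0, -1, 0]),
    ([0, 0, 0, -1, 0, 0, 0], [0, 1, 1, -2, 1, 0, 0]), ([0, 0, 0, -1, -1, 0, 0], [0, 1, 1, -1, -1, 1, 0]),
    ([0, -1, 0, -1, 0, 0, 0], [0, -1, 1, -1, 1, 0, 0]), ([0, -1, 0, -1, -1, 0, 0], [0, -1, 1, 0, -1, 1, 0]),
    ([0, 0, 1, 0, 0, 0, 0], [-1, 0, 2, -1, 0, 0, 0]), ([0, 0, -1, -1, 0, 0, 0], [1, 1, -1, -1, 1, 0, 0]),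
    ([0, 0, -1, -1, -1, 0, 0], [1, 1, -1, 0, -1, 1, 0]), ([0, -1, -1, -1, 0, 0, 0], [1, -1, -1, 0, 1, 0, 0]),
    ([0, -1, -1, -1, -1, 0, 0], [1, -1, -1, 1, -1, 1, 0])]

theorem ckE7 : Ck chevE7 7 ![1, 1, 1, 1, 1, 1, 1] [[2, 0, -1, 0, 0, 0, 0], [0, 2, 0, -1, 0, 0, 0], [-1, 0, 2, -1, 0, 0, 0], [0, -1, -1, 2, -1, 0, 0],
    [0, 0, 0, -1, 2, -1, 0], [0, 0, 0, 0, -1, 2, -1], [0, 0, 0, 0, 0, -1, 2]]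
    [4, 0, 4, 2, 0, 1, 0] [0, 3, 0, 4, 4, 3, 0] tE7 (rE7a ++ rE7b) where
  sym := by decide +kernel
  ne := by decide +kernel
  mat := by decide +kernel
  len := by decide +kernel
  rts := by decide +kernel
  tab := by decide +kernel
  mem := by decide +kernel
  gram := by decide +kernel
  neg := by decide +kernel
  add := by decide +kernel
  chr := by decide +kernel
  long := by decide +kernel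
  psi := by decide +kernel
  sep := by decide +kernel
  par := by decide +kernel

/-- the roots of `D₄` -/
def rtE7 (a : P5) : Fin 7 → ℤ := fl 7 (gt (rE7a ++ rE7b) (cd a)).1

theorem tbE7 : Tb hpE7 ![4, 0, 4, 2, 0, 1, 0] ![0, 3, 0, 4, 4, 3, 0] rtE7 := by
  have h := ckE7.tb hpE7
  rwa [show (fun i => (fl 7 [4, 0, 4, 2, 0, 1, 0] i : ZMod 5)) = ![4, 0, 4, 2, 0, 1, 0] by decide +kernel,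
    show (fun i => (fl 7 [0, 3, 0, 4, 4, 3, 0] i : ZMod 5)) = ![0, 3, 0, 4, 4, 3, 0] by decide +kernel] at h

end Cfsg.Agent.TO.X5
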