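import Cfsg.Agent.TO.X5.TabB

/-!
# S4817, exceptional groups, `p = 5` : the tables for `E₈` (helper34)
-/

set_option autoImplicit false
set_option maxHeartbeats 200000
set_option maxRecDepth 4000

namespace Cfsg.Agent.TO.X5

open Cfsg Cfsg.Lie Cfsg.Agent.KZ.DatX Cfsg.Agent.DL.Ex

/-- roots, classes, coroots -/
def tE8a : List (List ℤ × ℕ × List ℤ) :=
  [([-2, -3, -4, -6, -5, -4, -3, -2], 0, [0, 0, 0, 0, 0, 0, 0, -1]),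
    ([-2, -3, -4, -6, -5, -4, -3, -1], 0, [0, 0, 0, 0, 0, 0, -1, 1]),
    ([-2, -3, -4, -6, -5, -4, -2, -1], 0, [0, 0, 0, 0, 0, -1, 1, 0]),
    ([-2, -3, -4, -6, -5, -3, -2, -1], 8, [0, 0, 0, 0, -1, 1, 0, 0]),
    ([-2, -3, -4, -6, -4, -3, -2, -1], 7, [0, 0, 0, -1, 1, 0, 0, 0]),
    ([-2, -3, -4, -5, -4, -3, -2, -1], 16, [0, -1, -1, 1, 0, 0, 0, 0]),
    ([-2, -3, -3, -5, -4, -3, -2, -1], 11, [-1, -1, 1, 0, 0, 0, 0, 0]),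
    ([-2, -2, -4, -5, -4, -3, -2, -1], 19, [0, 1, -1, 0, 0, 0, 0, 0]),
    ([-2, -2, -3, -5, -4, -3, -2, -1], 14, [-1, 1, 1, -1, 0, 0, 0, 0]),
    ([-2, -2, -3, -4, -4, -3, -2, -1], 23, [-1, 0, 0, 1, -1, 0, 0, 0]),
    ([-2, -2, -3, -4, -3, -3, -2, -1], 22, [-1, 0, 0, 0, 1, -1, 0, 0]),
    ([-2, -2, -3, -4, -3, -2, -2, -1], 0, [-1, 0, 0, 0, 0, 1, -1, 0])]

/-- roots, classes, coroots -/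
def tE8b : List (List ℤ × ℕ × List ℤ) :=
  [([-2, -2, -3, -4, -3, -2, -1, -1], 0, [-1, 0, 0, 0, 0, 0, 1, -1]),
    ([-2, -2, -3, -4, -3, -2, -1, 0], 0, [-1, 0, 0, 0, 0, 0, 0, 1]),
    ([-1, -3, -3, -5, -4, -3, -2, -1], 6, [1, -1, 0, 0, 0, 0, 0, 0]),
    ([-1, -2, -3, -5, -4, -3, -2, -1], 9, [1, 1, 0, -1, 0, 0, 0, 0]),
    ([-1, -2, -3, -4, -4, -3, -2, -1], 18, [1, 0, -1, 1, -1, 0, 0, 0]),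
    ([-1, -2, -3, -4, -3, -3, -2, -1], 17, [1, 0, -1, 0, 1, -1, 0, 0]),
    ([-1, -2, -3, -4, -3, -2, -2, -1], 20, [1, 0, -1, 0, 0, 1, -1, 0]),
    ([-1, -2, -3, -4, -3, -2, -1, -1], 20, [1, 0, -1, 0, 0, 0, 1, -1]),
    ([-1, -2, -3, -4, -3, -2, -1, 0], 20, [1, 0, -1, 0, 0, 0, 0, 1]),
    ([-1, -2, -2, -4, -4, -3, -2, -1], 13, [0, 0, 1, 0, -1, 0, 0, 0]),
    ([-1, -2, -2, -4, -3, -3, -2, -1], 12, [0, 0, 1, -1, 1, -1, 0, 0]),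
    ([-1, -2, -2, -4, -3, -2, -2, -1], 15, [0, 0, 1, -1, 0, 1, -1, 0])]

/-- roots, classes, coroots -/
def tE8c : List (List ℤ × ℕ × List ℤ) :=
  [([-1, -2, -2, -4, -3, -2, -1, -1], 15, [0, 0, 1, -1, 0, 0, 1, -1]),
    ([-1, -2, -2, -4, -3, -2, -1, 0], 15, [0, 0, 1, -1, 0, 0, 0, 1]),
    ([-1, -2, -2, -3, -3, -3, -2, -1], 21, [0, -1, 0, 1, 0, -1, 0, 0]),
    ([-1, -2, -2, -3, -3, -2, -2, -1], 4, [0, -1, 0, 1, -1, 1, -1, 0]),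
    ([-1, -2, -2, -3, -3, -2, -1, -1], 4, [0, -1, 0, 1, -1, 0, 1, -1]),
    ([-1, -2, -2, -3, -3, -2, -1, 0], 4, [0, -1, 0, 1, -1, 0, 0, 1]),
    ([-1, -2, -2, -3, -2, -2, -2, -1], 3, [0, -1, 0, 0, 1, 0, -1, 0]),
    ([-1, -2, -2, -3, -2, -2, -1, -1], 3, [0, -1, 0, 0, 1, -1, 1, -1]),
    ([-1, -2, -2, -3, -2, -2, -1, 0], 3, [0, -1, 0, 0, 1, -1, 0, 1]),
    ([-1, -2, -2, -3, -2, -1, -1, -1], 6, [0, -1, 0, 0, 0, 1, 0, -1]),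
    ([-1, -2, -2, -3, -2, -1, -1, 0], 6, [0, -1, 0, 0, 0, 1, -1, 1]),
    ([-1, -2, -2, -3, -2, -1, 0, 0], 6, [0, -1, 0, 0, 0, 0, 1, 0])]

/-- roots, classes, coroots -/
def tE8d : List (List ℤ × ℕ × List ℤ) :=
  [([-1, -1, -2, -3, -3, -3, -2, -1], 24, [0, 1, 0, 0, 0, -1, 0, 0]),
    ([-1, -1, -2, -3, -3, -2, -2, -1], 2, [0, 1, 0, 0, -1, 1, -1, 0]),
    ([-1, -1, -2, -3, -3, -2, -1, -1], 2, [0, 1, 0, 0, -1, 0, 1, -1]),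
    ([-1, -1, -2, -3, -3, -2, -1, 0], 2, [0, 1, 0, 0, -1, 0, 0, 1]),
    ([-1, -1, -2, -3, -2, -2, -2, -1], 1, [0, 1, 0, -1, 1, 0, -1, 0]),
    ([-1, -1, -2, -3, -2, -2, -1, -1], 1, [0, 1, 0, -1, 1, -1, 1, -1]),
    ([-1, -1, -2, -3, -2, -2, -1, 0], 1, [0, 1, 0, -1, 1, -1, 0, 1]),
    ([-1, -1, -2, -3, -2, -1, -1, -1], 9, [0, 1, 0, -1, 0, 1, 0, -1]),
    ([-1, -1, -2, -3, -2, -1, -1, 0], 9, [0, 1, 0, -1, 0, 1, -1, 1]),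
    ([-1, -1, -2, -3, -2, -1, 0, 0], 9, [0, 1, 0, -1, 0, 0, 1, 0]),
    ([-1, -1, -2, -2, -2, -2, -2, -1], 10, [0, 0, -1, 1, 0, 0, -1, 0]),
    ([-1, -1, -2, -2, -2, -2, -1, -1], 10, [0, 0, -1, 1, 0, -1, 1, -1])]

/-- roots, classes, coroots -/
def tE8e : List (List ℤ × ℕ × List ℤ) :=
  [([-1, -1, -2, -2, -2, -2, -1, 0], 10, [0, 0, -1, 1, 0, -1, 0, 1]),
    ([-1, -1, -2, -2, -2, -1, -1, -1], 18, [0, 0, -1, 1, -1, 1, 0, -1]),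
    ([-1, -1, -2, -2, -2, -1, -1, 0], 18, [0, 0, -1, 1, -1, 1, -1, 1]),
    ([-1, -1, -2, -2, -2, -1, 0, 0], 18, [0, 0, -1, 1, -1, 0, 1, 0]),
    ([-1, -1, -2, -2, -1, -1, -1, -1], 17, [0, 0, -1, 0, 1, 0, 0, -1]),
    ([-1, -1, -2, -2, -1, -1, -1, 0], 17, [0, 0, -1, 0, 1, 0, -1, 1]),
    ([-1, -1, -2, -2, -1, -1, 0, 0], 17, [0, 0, -1, 0, 1, -1, 1, 0]),
    ([-1, -1, -2, -2, -1, 0, 0, 0], 20, [0, 0, -1, 0, 0, 1, 0, 0]),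
    ([-1, -1, -1, -2, -2, -2, -2, -1], 5, [-1, 0, 1, 0, 0, 0, -1, 0]),
    ([-1, -1, -1, -2, -2, -2, -1, -1], 5, [-1, 0, 1, 0, 0, -1, 1, -1]),
    ([-1, -1, -1, -2, -2, -2, -1, 0], 5, [-1, 0, 1, 0, 0, -1, 0, 1]),
    ([-1, -1, -1, -2, -2, -1, -1, -1], 13, [-1, 0, 1, 0, -1, 1, 0, -1])]

/-- roots, classes, coroots -/
def tE8f : List (List ℤ × ℕ × List ℤ) :=
  [([-1, -1, -1, -2, -2, -1, -1, 0], 13, [-1, 0, 1, 0, -1, 1, -1, 1]),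
    ([-1, -1, -1, -2, -2, -1, 0, 0], 13, [-1, 0, 1, 0, -1, 0, 1, 0]),
    ([-1, -1, -1, -2, -1, -1, -1, -1], 12, [-1, 0, 1, -1, 1, 0, 0, -1]),
    ([-1, -1, -1, -2, -1, -1, -1, 0], 12, [-1, 0, 1, -1, 1, 0, -1, 1]),
    ([-1, -1, -1, -2, -1, -1, 0, 0], 12, [-1, 0, 1, -1, 1, -1, 1, 0]),
    ([-1, -1, -1, -2, -1, 0, 0, 0], 15, [-1, 0, 1, -1, 0, 1, 0, 0]),
    ([-1, -1, -1, -1, -1, -1, -1, -1], 21, [-1, -1, 0, 1, 0, 0, 0, -1]),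
    ([-1, -1, -1, -1, -1, -1, -1, 0], 21, [-1, -1, 0, 1, 0, 0, -1, 1]),
    ([-1, -1, -1, -1, -1, -1, 0, 0], 21, [-1, -1, 0, 1, 0, -1, 1, 0]),
    ([-1, -1, -1, -1, -1, 0, 0, 0], 4, [-1, -1, 0, 1, -1, 1, 0, 0]),
    ([-1, -1, -1, -1, 0, 0, 0, 0], 3, [-1, -1, 0, 0, 1, 0, 0, 0]),
    ([-1, 0, -1, -1, -1, -1, -1, -1], 24, [-1, 1, 0, 0, 0, 0, 0, -1])]

/-- roots, classes, coroots -/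
def tE8g : List (List ℤ × ℕ × List ℤ) :=
  [([-1, 0, -1, -1, -1, -1, -1, 0], 24, [-1, 1, 0, 0, 0, 0, -1, 1]),
    ([-1, 0, -1, -1, -1, -1, 0, 0], 24, [-1, 1, 0, 0, 0, -1, 1, 0]),
    ([-1, 0, -1, -1, -1, 0, 0, 0], 2, [-1, 1, 0, 0, -1, 1, 0, 0]),
    ([-1, 0, -1, -1, 0, 0, 0, 0], 1, [-1, 1, 0, -1, 1, 0, 0, 0]),
    ([-1, 0, -1, 0, 0, 0, 0, 0], 10, [-1, 0, -1, 1, 0, 0, 0, 0]),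
    ([-1, 0, 0, 0, 0, 0, 0, 0], 5, [-2, 0, 1, 0, 0, 0, 0, 0]),
    ([0, -1, -1, -2, -2, -2, -2, -1], 0, [1, 0, 0, 0, 0, 0, -1, 0]),
    ([0, -1, -1, -2, -2, -2, -1, -1], 0, [1, 0, 0, 0, 0, -1, 1, -1]),
    ([0, -1, -1, -2, -2, -2, -1, 0], 0, [1, 0, 0, 0, 0, -1, 0, 1]),
    ([0, -1, -1, -2, -2, -1, -1, -1], 8, [1, 0, 0, 0, -1, 1, 0, -1]),
    ([0, -1, -1, -2, -2, -1, -1, 0], 8, [1, 0, 0, 0, -1, 1, -1, 1]),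
    ([0, -1, -1, -2, -2, -1, 0, 0], 8, [1, 0, 0, 0, -1, 0, 1, 0])]

/-- roots, classes, coroots -/
def tE8h : List (List ℤ × ℕ × List ℤ) :=
  [([0, -1, -1, -2, -1, -1, -1, -1], 7, [1, 0, 0, -1, 1, 0, 0, -1]),
    ([0, -1, -1, -2, -1, -1, -1, 0], 7, [1, 0, 0, -1, 1, 0, -1, 1]),
    ([0, -1, -1, -2, -1, -1, 0, 0], 7, [1, 0, 0, -1, 1, -1, 1, 0]),
    ([0, -1, -1, -2, -1, 0, 0, 0], 10, [1, 0, 0, -1, 0, 1, 0, 0]),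
    ([0, -1, -1, -1, -1, -1, -1, -1], 16, [1, -1, -1, 1, 0, 0, 0, -1]),
    ([0, -1, -1, -1, -1, -1, -1, 0], 16, [1, -1, -1, 1, 0, 0, -1, 1]),
    ([0, -1, -1, -1, -1, -1, 0, 0], 16, [1, -1, -1, 1, 0, -1, 1, 0]),
    ([0, -1, -1, -1, -1, 0, 0, 0], 24, [1, -1, -1, 1, -1, 1, 0, 0]),
    ([0, -1, -1, -1, 0, 0, 0, 0], 23, [1, -1, -1, 0, 1, 0, 0, 0]),
    ([0, -1, 0, -1, -1, -1, -1, -1], 11, [0, -1, 1, 0, 0, 0, 0, -1]),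
    ([0, -1, 0, -1, -1, -1, -1, 0], 11, [0, -1, 1, 0, 0, 0, -1, 1]),
    ([0, -1, 0, -1, -1, -1, 0, 0], 11, [0, -1, 1, 0, 0, -1, 1, 0])]

/-- roots, classes, coroots -/
def tE8i : List (List ℤ × ℕ × List ℤ) :=
  [([0, -1, 0, -1, -1, 0, 0, 0], 19, [0, -1, 1, 0, -1, 1, 0, 0]),
    ([0, -1, 0, -1, 0, 0, 0, 0], 18, [0, -1, 1, -1, 1, 0, 0, 0]),
    ([0, -1, 0, 0, 0, 0, 0, 0], 2, [0, -2, 0, 1, 0, 0, 0, 0]),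
    ([0, 0, -1, -1, -1, -1, -1, -1], 19, [1, 1, -1, 0, 0, 0, 0, -1]),
    ([0, 0, -1, -1, -1, -1, -1, 0], 19, [1, 1, -1, 0, 0, 0, -1, 1]),
    ([0, 0, -1, -1, -1, -1, 0, 0], 19, [1, 1, -1, 0, 0, -1, 1, 0]),
    ([0, 0, -1, -1, -1, 0, 0, 0], 22, [1, 1, -1, 0, -1, 1, 0, 0]),
    ([0, 0, -1, -1, 0, 0, 0, 0], 21, [1, 1, -1, -1, 1, 0, 0, 0]),
    ([0, 0, -1, 0, 0, 0, 0, 0], 5, [1, 0, -2, 1, 0, 0, 0, 0]),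
    ([0, 0, 0, -1, -1, -1, -1, -1], 14, [0, 1, 1, -1, 0, 0, 0, -1]),
    ([0, 0, 0, -1, -1, -1, -1, 0], 14, [0, 1, 1, -1, 0, 0, -1, 1]),
    ([0, 0, 0, -1, -1, -1, 0, 0], 14, [0, 1, 1, -1, 0, -1, 1, 0])]

/-- roots, classes, coroots -/
def tE8j : List (List ℤ × ℕ × List ℤ) :=
  [([0, 0, 0, -1, -1, 0, 0, 0], 17, [0, 1, 1, -1, -1, 1, 0, 0]),
    ([0, 0, 0, -1, 0, 0, 0, 0], 16, [0, 1, 1, -2, 1, 0, 0, 0]),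
    ([0, 0, 0, 0, -1, -1, -1, -1], 23, [0, 0, 0, 1, -1, 0, 0, -1]),
    ([0, 0, 0, 0, -1, -1, -1, 0], 23, [0, 0, 0, 1, -1, 0, -1, 1]),
    ([0, 0, 0, 0, -1, -1, 0, 0], 23, [0, 0, 0, 1, -1, -1, 1, 0]),
    ([0, 0, 0, 0, -1, 0, 0, 0], 1, [0, 0, 0, 1, -2, 1, 0, 0]),
    ([0, 0, 0, 0, 0, -1, -1, -1], 22, [0, 0, 0, 0, 1, -1, 0, -1]),
    ([0, 0, 0, 0, 0, -1, -1, 0], 22, [0, 0, 0, 0, 1, -1, -1, 1]),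
    ([0, 0, 0, 0, 0, -1, 0, 0], 22, [0, 0, 0, 0, 1, -2, 1, 0]),
    ([0, 0, 0, 0, 0, 0, -1, -1], 0, [0, 0, 0, 0, 0, 1, -1, -1]),
    ([0, 0, 0, 0, 0, 0, -1, 0], 0, [0, 0, 0, 0, 0, 1, -2, 1]),
    ([0, 0, 0, 0, 0, 0, 0, -1], 0, [0, 0, 0, 0, 0, 0, 1, -2])]

/-- roots, classes, coroots -/
def tE8k : List (List ℤ × ℕ × List ℤ) :=
  [([0, 0, 0, 0, 0, 0, 0, 1], 0, [0, 0, 0, 0, 0, 0, -1, 2]),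
    ([0, 0, 0, 0, 0, 0, 1, 0], 0, [0, 0, 0, 0, 0, -1, 2, -1]),
    ([0, 0, 0, 0, 0, 0, 1, 1], 0, [0, 0, 0, 0, 0, -1, 1, 1]),
    ([0, 0, 0, 0, 0, 1, 0, 0], 8, [0, 0, 0, 0, -1, 2, -1, 0]),
    ([0, 0, 0, 0, 0, 1, 1, 0], 8, [0, 0, 0, 0, -1, 1, 1, -1]),
    ([0, 0, 0, 0, 0, 1, 1, 1], 8, [0, 0, 0, 0, -1, 1, 0, 1]),
    ([0, 0, 0, 0, 1, 0, 0, 0], 4, [0, 0, 0, -1, 2, -1, 0, 0]),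
    ([0, 0, 0, 0, 1, 1, 0, 0], 7, [0, 0, 0, -1, 1, 1, -1, 0]),
    ([0, 0, 0, 0, 1, 1, 1, 0], 7, [0, 0, 0, -1, 1, 0, 1, -1]),
    ([0, 0, 0, 0, 1, 1, 1, 1], 7, [0, 0, 0, -1, 1, 0, 0, 1]),
    ([0, 0, 0, 1, 0, 0, 0, 0], 14, [0, -1, -1, 2, -1, 0, 0, 0]),
    ([0, 0, 0, 1, 1, 0, 0, 0], 13, [0, -1, -1, 1, 1, -1, 0, 0])]

/-- roots, classes, coroots -/
def tE8l : List (List ℤ × ℕ × List ℤ) :=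
  [([0, 0, 0, 1, 1, 1, 0, 0], 16, [0, -1, -1, 1, 0, 1, -1, 0]),
    ([0, 0, 0, 1, 1, 1, 1, 0], 16, [0, -1, -1, 1, 0, 0, 1, -1]),
    ([0, 0, 0, 1, 1, 1, 1, 1], 16, [0, -1, -1, 1, 0, 0, 0, 1]),
    ([0, 0, 1, 0, 0, 0, 0, 0], 20, [-1, 0, 2, -1, 0, 0, 0, 0]),
    ([0, 0, 1, 1, 0, 0, 0, 0], 9, [-1, -1, 1, 1, -1, 0, 0, 0]),
    ([0, 0, 1, 1, 1, 0, 0, 0], 8, [-1, -1, 1, 0, 1, -1, 0, 0]),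
    ([0, 0, 1, 1, 1, 1, 0, 0], 11, [-1, -1, 1, 0, 0, 1, -1, 0]),
    ([0, 0, 1, 1, 1, 1, 1, 0], 11, [-1, -1, 1, 0, 0, 0, 1, -1]),
    ([0, 0, 1, 1, 1, 1, 1, 1], 11, [-1, -1, 1, 0, 0, 0, 0, 1]),
    ([0, 1, 0, 0, 0, 0, 0, 0], 3, [0, 2, 0, -1, 0, 0, 0, 0]),
    ([0, 1, 0, 1, 0, 0, 0, 0], 12, [0, 1, -1, 1, -1, 0, 0, 0]),
    ([0, 1, 0, 1, 1, 0, 0, 0], 11, [0, 1, -1, 0, 1, -1, 0, 0])]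

/-- roots, classes, coroots -/
def tE8m : List (List ℤ × ℕ × List ℤ) :=
  [([0, 1, 0, 1, 1, 1, 0, 0], 19, [0, 1, -1, 0, 0, 1, -1, 0]),
    ([0, 1, 0, 1, 1, 1, 1, 0], 19, [0, 1, -1, 0, 0, 0, 1, -1]),
    ([0, 1, 0, 1, 1, 1, 1, 1], 19, [0, 1, -1, 0, 0, 0, 0, 1]),
    ([0, 1, 1, 1, 0, 0, 0, 0], 7, [-1, 1, 1, 0, -1, 0, 0, 0]),
    ([0, 1, 1, 1, 1, 0, 0, 0], 6, [-1, 1, 1, -1, 1, -1, 0, 0]),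
    ([0, 1, 1, 1, 1, 1, 0, 0], 14, [-1, 1, 1, -1, 0, 1, -1, 0]),
    ([0, 1, 1, 1, 1, 1, 1, 0], 14, [-1, 1, 1, -1, 0, 0, 1, -1]),
    ([0, 1, 1, 1, 1, 1, 1, 1], 14, [-1, 1, 1, -1, 0, 0, 0, 1]),
    ([0, 1, 1, 2, 1, 0, 0, 0], 15, [-1, 0, 0, 1, 0, -1, 0, 0]),
    ([0, 1, 1, 2, 1, 1, 0, 0], 23, [-1, 0, 0, 1, -1, 1, -1, 0]),
    ([0, 1, 1, 2, 1, 1, 1, 0], 23, [-1, 0, 0, 1, -1, 0, 1, -1]),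
    ([0, 1, 1, 2, 1, 1, 1, 1], 23, [-1, 0, 0, 1, -1, 0, 0, 1])]

/-- roots, classes, coroots -/
def tE8n : List (List ℤ × ℕ × List ℤ) :=
  [([0, 1, 1, 2, 2, 1, 0, 0], 22, [-1, 0, 0, 0, 1, 0, -1, 0]),
    ([0, 1, 1, 2, 2, 1, 1, 0], 22, [-1, 0, 0, 0, 1, -1, 1, -1]),
    ([0, 1, 1, 2, 2, 1, 1, 1], 22, [-1, 0, 0, 0, 1, -1, 0, 1]),
    ([0, 1, 1, 2, 2, 2, 1, 0], 0, [-1, 0, 0, 0, 0, 1, 0, -1]),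
    ([0, 1, 1, 2, 2, 2, 1, 1], 0, [-1, 0, 0, 0, 0, 1, -1, 1]),
    ([0, 1, 1, 2, 2, 2, 2, 1], 0, [-1, 0, 0, 0, 0, 0, 1, 0]),
    ([1, 0, 0, 0, 0, 0, 0, 0], 20, [2, 0, -1, 0, 0, 0, 0, 0]),
    ([1, 0, 1, 0, 0, 0, 0, 0], 15, [1, 0, 1, -1, 0, 0, 0, 0]),
    ([1, 0, 1, 1, 0, 0, 0, 0], 4, [1, -1, 0, 1, -1, 0, 0, 0]),
    ([1, 0, 1, 1, 1, 0, 0, 0], 3, [1, -1, 0, 0, 1, -1, 0, 0]),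
    ([1, 0, 1, 1, 1, 1, 0, 0], 6, [1, -1, 0, 0, 0, 1, -1, 0]),
    ([1, 0, 1, 1, 1, 1, 1, 0], 6, [1, -1, 0, 0, 0, 0, 1, -1])]

/-- roots, classes, coroots -/
def tE8o : List (List ℤ × ℕ × List ℤ) :=
  [([1, 0, 1, 1, 1, 1, 1, 1], 6, [1, -1, 0, 0, 0, 0, 0, 1]),
    ([1, 1, 1, 1, 0, 0, 0, 0], 2, [1, 1, 0, 0, -1, 0, 0, 0]),
    ([1, 1, 1, 1, 1, 0, 0, 0], 1, [1, 1, 0, -1, 1, -1, 0, 0]),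
    ([1, 1, 1, 1, 1, 1, 0, 0], 9, [1, 1, 0, -1, 0, 1, -1, 0]),
    ([1, 1, 1, 1, 1, 1, 1, 0], 9, [1, 1, 0, -1, 0, 0, 1, -1]),
    ([1, 1, 1, 1, 1, 1, 1, 1], 9, [1, 1, 0, -1, 0, 0, 0, 1]),
    ([1, 1, 1, 2, 1, 0, 0, 0], 10, [1, 0, -1, 1, 0, -1, 0, 0]),
    ([1, 1, 1, 2, 1, 1, 0, 0], 18, [1, 0, -1, 1, -1, 1, -1, 0]),
    ([1, 1, 1, 2, 1, 1, 1, 0], 18, [1, 0, -1, 1, -1, 0, 1, -1]),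
    ([1, 1, 1, 2, 1, 1, 1, 1], 18, [1, 0, -1, 1, -1, 0, 0, 1]),
    ([1, 1, 1, 2, 2, 1, 0, 0], 17, [1, 0, -1, 0, 1, 0, -1, 0]),
    ([1, 1, 1, 2, 2, 1, 1, 0], 17, [1, 0, -1, 0, 1, -1, 1, -1])]

/-- roots, classes, coroots -/
def tE8p : List (List ℤ × ℕ × List ℤ) :=
  [([1, 1, 1, 2, 2, 1, 1, 1], 17, [1, 0, -1, 0, 1, -1, 0, 1]),
    ([1, 1, 1, 2, 2, 2, 1, 0], 20, [1, 0, -1, 0, 0, 1, 0, -1]),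
    ([1, 1, 1, 2, 2, 2, 1, 1], 20, [1, 0, -1, 0, 0, 1, -1, 1]),
    ([1, 1, 1, 2, 2, 2, 2, 1], 20, [1, 0, -1, 0, 0, 0, 1, 0]),
    ([1, 1, 2, 2, 1, 0, 0, 0], 5, [0, 0, 1, 0, 0, -1, 0, 0]),
    ([1, 1, 2, 2, 1, 1, 0, 0], 13, [0, 0, 1, 0, -1, 1, -1, 0]),
    ([1, 1, 2, 2, 1, 1, 1, 0], 13, [0, 0, 1, 0, -1, 0, 1, -1]),
    ([1, 1, 2, 2, 1, 1, 1, 1], 13, [0, 0, 1, 0, -1, 0, 0, 1]),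
    ([1, 1, 2, 2, 2, 1, 0, 0], 12, [0, 0, 1, -1, 1, 0, -1, 0]),
    ([1, 1, 2, 2, 2, 1, 1, 0], 12, [0, 0, 1, -1, 1, -1, 1, -1]),
    ([1, 1, 2, 2, 2, 1, 1, 1], 12, [0, 0, 1, -1, 1, -1, 0, 1]),
    ([1, 1, 2, 2, 2, 2, 1, 0], 15, [0, 0, 1, -1, 0, 1, 0, -1])]

/-- roots, classes, coroots -/
def tE8q : List (List ℤ × ℕ × List ℤ) :=
  [([1, 1, 2, 2, 2, 2, 1, 1], 15, [0, 0, 1, -1, 0, 1, -1, 1]),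
    ([1, 1, 2, 2, 2, 2, 2, 1], 15, [0, 0, 1, -1, 0, 0, 1, 0]),
    ([1, 1, 2, 3, 2, 1, 0, 0], 21, [0, -1, 0, 1, 0, 0, -1, 0]),
    ([1, 1, 2, 3, 2, 1, 1, 0], 21, [0, -1, 0, 1, 0, -1, 1, -1]),
    ([1, 1, 2, 3, 2, 1, 1, 1], 21, [0, -1, 0, 1, 0, -1, 0, 1]),
    ([1, 1, 2, 3, 2, 2, 1, 0], 4, [0, -1, 0, 1, -1, 1, 0, -1]),
    ([1, 1, 2, 3, 2, 2, 1, 1], 4, [0, -1, 0, 1, -1, 1, -1, 1]),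
    ([1, 1, 2, 3, 2, 2, 2, 1], 4, [0, -1, 0, 1, -1, 0, 1, 0]),
    ([1, 1, 2, 3, 3, 2, 1, 0], 3, [0, -1, 0, 0, 1, 0, 0, -1]),
    ([1, 1, 2, 3, 3, 2, 1, 1], 3, [0, -1, 0, 0, 1, 0, -1, 1]),
    ([1, 1, 2, 3, 3, 2, 2, 1], 3, [0, -1, 0, 0, 1, -1, 1, 0]),
    ([1, 1, 2, 3, 3, 3, 2, 1], 6, [0, -1, 0, 0, 0, 1, 0, 0])]

/-- roots, classes, coroots -/
def tE8r : List (List ℤ × ℕ × List ℤ) :=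
  [([1, 2, 2, 3, 2, 1, 0, 0], 24, [0, 1, 0, 0, 0, 0, -1, 0]),
    ([1, 2, 2, 3, 2, 1, 1, 0], 24, [0, 1, 0, 0, 0, -1, 1, -1]),
    ([1, 2, 2, 3, 2, 1, 1, 1], 24, [0, 1, 0, 0, 0, -1, 0, 1]),
    ([1, 2, 2, 3, 2, 2, 1, 0], 2, [0, 1, 0, 0, -1, 1, 0, -1]),
    ([1, 2, 2, 3, 2, 2, 1, 1], 2, [0, 1, 0, 0, -1, 1, -1, 1]),
    ([1, 2, 2, 3, 2, 2, 2, 1], 2, [0, 1, 0, 0, -1, 0, 1, 0]),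
    ([1, 2, 2, 3, 3, 2, 1, 0], 1, [0, 1, 0, -1, 1, 0, 0, -1]),
    ([1, 2, 2, 3, 3, 2, 1, 1], 1, [0, 1, 0, -1, 1, 0, -1, 1]),
    ([1, 2, 2, 3, 3, 2, 2, 1], 1, [0, 1, 0, -1, 1, -1, 1, 0]),
    ([1, 2, 2, 3, 3, 3, 2, 1], 9, [0, 1, 0, -1, 0, 1, 0, 0]),
    ([1, 2, 2, 4, 3, 2, 1, 0], 10, [0, 0, -1, 1, 0, 0, 0, -1]),
    ([1, 2, 2, 4, 3, 2, 1, 1], 10, [0, 0, -1, 1, 0, 0, -1, 1])]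

/-- roots, classes, coroots -/
def tE8s : List (List ℤ × ℕ × List ℤ) :=
  [([1, 2, 2, 4, 3, 2, 2, 1], 10, [0, 0, -1, 1, 0, -1, 1, 0]),
    ([1, 2, 2, 4, 3, 3, 2, 1], 18, [0, 0, -1, 1, -1, 1, 0, 0]),
    ([1, 2, 2, 4, 4, 3, 2, 1], 17, [0, 0, -1, 0, 1, 0, 0, 0]),
    ([1, 2, 3, 4, 3, 2, 1, 0], 5, [-1, 0, 1, 0, 0, 0, 0, -1]),
    ([1, 2, 3, 4, 3, 2, 1, 1], 5, [-1, 0, 1, 0, 0, 0, -1, 1]),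
    ([1, 2, 3, 4, 3, 2, 2, 1], 5, [-1, 0, 1, 0, 0, -1, 1, 0]),
    ([1, 2, 3, 4, 3, 3, 2, 1], 13, [-1, 0, 1, 0, -1, 1, 0, 0]),
    ([1, 2, 3, 4, 4, 3, 2, 1], 12, [-1, 0, 1, -1, 1, 0, 0, 0]),
    ([1, 2, 3, 5, 4, 3, 2, 1], 21, [-1, -1, 0, 1, 0, 0, 0, 0]),
    ([1, 3, 3, 5, 4, 3, 2, 1], 24, [-1, 1, 0, 0, 0, 0, 0, 0]),
    ([2, 2, 3, 4, 3, 2, 1, 0], 0, [1, 0, 0, 0, 0, 0, 0, -1]),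
    ([2, 2, 3, 4, 3, 2, 1, 1], 0, [1, 0, 0, 0, 0, 0, -1, 1])]

/-- roots, classes, coroots -/
def tE8t : List (List ℤ × ℕ × List ℤ) :=
  [([2, 2, 3, 4, 3, 2, 2, 1], 0, [1, 0, 0, 0, 0, -1, 1, 0]),
    ([2, 2, 3, 4, 3, 3, 2, 1], 8, [1, 0, 0, 0, -1, 1, 0, 0]),
    ([2, 2, 3, 4, 4, 3, 2, 1], 7, [1, 0, 0, -1, 1, 0, 0, 0]),
    ([2, 2, 3, 5, 4, 3, 2, 1], 16, [1, -1, -1, 1, 0, 0, 0, 0]),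
    ([2, 2, 4, 5, 4, 3, 2, 1], 11, [0, -1, 1, 0, 0, 0, 0, 0]),
    ([2, 3, 3, 5, 4, 3, 2, 1], 19, [1, 1, -1, 0, 0, 0, 0, 0]),
    ([2, 3, 4, 5, 4, 3, 2, 1], 14, [0, 1, 1, -1, 0, 0, 0, 0]),
    ([2, 3, 4, 6, 4, 3, 2, 1], 23, [0, 0, 0, 1, -1, 0, 0, 0]),
    ([2, 3, 4, 6, 5, 3, 2, 1], 22, [0, 0, 0, 0, 1, -1, 0, 0]),
    ([2, 3, 4, 6, 5, 4, 2, 1], 0, [0, 0, 0, 0, 0, 1, -1, 0]),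
    ([2, 3, 4, 6, 5, 4, 3, 1], 0, [0, 0, 0, 0, 0, 0, 1, -1]),
    ([2, 3, 4, 6, 5, 4, 3, 2], 0, [0, 0, 0, 0, 0, 0, 0, 1])]

/-- roots, classes, coroots -/
def tE8 : List (List ℤ × ℕ × List ℤ) :=
  List.flatten [tE8a, tE8b, tE8c, tE8d, tE8e, tE8f, tE8g, tE8h, tE8i, tE8j, tE8k, tE8l, tE8m, tE8n, tE8o, tE8p, tE8q, tE8r, tE8s,
    tE8t]

/-- the roots and coroots of `D₄` -/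
def rE8a : List (List ℤ × List ℤ) :=
  [([0, 0, 0, 0, 0, 0, 0, 0], [0, 0, 0, 0, 0, 0, 0, 0]), ([0, 0, 0, 0, -1, 0, 0, 0], [0, 0, 0, 1, -2, 1, 0, 0]),
    ([0, -1, 0, 0, 0, 0, 0, 0], [0, -2, 0, 1, 0, 0, 0, 0]), ([0, 1, 0, 0, 0, 0, 0, 0], [0, 2, 0, -1, 0, 0, 0, 0]),
    ([0, 0, 0, 0, 1, 0, 0, 0], [0, 0, 0, -1, 2, -1, 0, 0]), ([0, 0, -1, 0, 0, 0, 0, 0], [1, 0, -2, 1, 0, 0, 0, 0]),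
    ([0, 1, 1, 1, 1, 0, 0, 0], [-1, 1, 1, -1, 1, -1, 0, 0]), ([0, 1, 1, 1, 0, 0, 0, 0], [-1, 1, 1, 0, -1, 0, 0, 0]),
    ([0, 0, 1, 1, 1, 0, 0, 0], [-1, -1, 1, 0, 1, -1, 0, 0]), ([0, 0, 1, 1, 0, 0, 0, 0], [-1, -1, 1, 1, -1, 0, 0, 0]),
    ([0, -1, -1, -2, -1, 0, 0, 0], [1, 0, 0, -1, 0, 1, 0, 0]),
    ([0, 1, 0, 1, 1, 0, 0, 0], [0, 1, -1, 0, 1, -1, 0, 0])]

/-- the roots and coroots of `D₄` -/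
def rE8b : List (List ℤ × List ℤ) :=
  [([0, 1, 0, 1, 0, 0, 0, 0], [0, 1, -1, 1, -1, 0, 0, 0]), ([0, 0, 0, 1, 1, 0, 0, 0], [0, -1, -1, 1, 1, -1, 0, 0]),
    ([0, 0, 0, 1, 0, 0, 0, 0], [0, -1, -1, 2, -1, 0, 0, 0]), ([0, 1, 1, 2, 1, 0, 0, 0], [-1, 0, 0, 1, 0, -1, 0, 0]),
    ([0, 0, 0, -1, 0, 0, 0, 0], [0, 1, 1, -2, 1, 0, 0, 0]), ([0, 0, 0, -1, -1, 0, 0, 0], [0, 1, 1, -1, -1, 1, 0, 0]),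
    ([0, -1, 0, -1, 0, 0, 0, 0], [0, -1, 1, -1, 1, 0, 0, 0]),
    ([0, -1, 0, -1, -1, 0, 0, 0], [0, -1, 1, 0, -1, 1, 0, 0]),
    ([0, 0, 1, 0, 0, 0, 0, 0], [-1, 0, 2, -1, 0, 0, 0, 0]), ([0, 0, -1, -1, 0, 0, 0, 0], [1, 1, -1, -1, 1, 0, 0, 0]),
    ([0, 0, -1, -1, -1, 0, 0, 0], [1, 1, -1, 0, -1, 1, 0, 0]),
    ([0, -1, -1, -1, 0, 0, 0, 0], [1, -1, -1, 0, 1, 0, 0, 0]),
    ([0, -1, -1, -1, -1, 0, 0, 0], [1, -1, -1, 1, -1, 1, 0, 0])]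

theorem ckE8 : Ck chevE8 8 ![1, 1, 1, 1, 1, 1, 1, 1] [[2, 0, -1, 0, 0, 0, 0, 0], [0, 2, 0, -1, 0, 0, 0, 0], [-1, 0, 2, -1, 0, 0, 0, 0], [0, -1, -1, 2, -1, 0, 0, 0],
    [0, 0, 0, -1, 2, -1, 0, 0], [0, 0, 0, 0, -1, 2, -1, 0], [0, 0, 0, 0, 0, -1, 2, -1], [0, 0, 0, 0, 0, 0, -1, 2]]
    [4, 0, 4, 2, 0, 1, 0, 0] [0, 3, 0, 4, 4, 3, 0, 0] tE8 (rE8a ++ rE8b) where
  sym := by decide +kernel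
  ne := by decide +kernel
  mat := by decide +kernel
  len := by decide +kernel
  rts := by decide +kernel
  tab := by decide +kernel
  mem := by decide +kernel
  gram := by decide +kernel
  neg := by decide +kernel
  add := by decide +kernel
  chr := by decide +kernel
  long := by decide +kernel
  psi := by decide +kernel
  sep := by decide +kernel
  par := by decide +kernel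

/-- the roots of `D₄` -/
def rtE8 (a : P5) : Fin 8 → ℤ := fl 8 (gt (rE8a ++ rE8b) (cd a)).1

theorem tbE8 : Tb hpE8 ![4, 0, 4, 2, 0, 1, 0, 0] ![0, 3, 0, 4, 4, 3, 0, 0] rtE8 := by
  have h := ckE8.tb hpE8
  rwa [show (fun i => (fl 8 [4, 0, 4, 2, 0, 1, 0, 0] i : ZMod 5)) = ![4, 0, 4, 2, 0, 1, 0, 0] by decide +kernel,
    show (fun i => (fl 8 [0, 3, 0, 4, 4, 3, 0, 0] i : ZMod 5)) = ![0, 3, 0, 4, 4, 3, 0, 0] by decide +kernel] at h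

end Cfsg.Agent.TO.X5
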