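import Cfsg.Agent.TO.X5.FoA

/-!
# S4817, exceptional groups, `p = 5` : the action on the torus of `D₄` (helper34)
-/

set_option autoImplicit false
set_option linter.unusedSectionVars false
set_option maxHeartbeats 200000

namespace Cfsg.Agent.TO.X5

open CoxeterSystem Cfsg Cfsg.Lie Cfsg.Lie.ChevalleyDatum Matrix
open Cfsg.Agent.ChevalleyStructure Cfsg.Agent.ChevalleyStructure.Elts Cfsg.Agent.ChevalleyStructure.CoxeterGeom
  Cfsg.Agent.ChevalleyStructure.CoxeterGeomTypes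
open Cfsg.Agent.Tits.Roots Cfsg.Agent.Nodes Cfsg.Agent.Nodes.RGDChev Cfsg.Agent.Nodes.Coroot Cfsg.Agent.TO.X
open Cfsg.Agent.DL Cfsg.Agent.KZ.DatX Cfsg.Agent.BpExc.Zc

attribute [local instance] fact5

variable {C : ChevalleyDatum} {l : ℕ} {M : CoxeterMatrix (Fin l)} {hp : IsType C l M} {r : ℕ} [Fact r.Prime]
  {k : Type} [Field k] [CharP k r] [IsAlgClosed k] {Mx : Matrix (Fin l) (Fin l) ℤ} {X : XF hp r k Mx}
  {E : Tor X} {ζ : kˣ} {u x : Fin l → ZMod 5} {rt : P5 → Fin l → ℤ}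


theorem exists_τ {t : ↥(C.group k)} (ht : t ∈ Td E rt) : ∃ y, E.τ y = t := E.mem_T.1 (TD_le ht)

theorem mon_Td {y : Fin l → kˣ} (hy : E.τ y ∈ Td E rt) {A : Matrix (Fin l) (Fin l) ℤ}
    (h : ∀ c, c ≠ 0 → A *ᵥ E.cor (rt c) = 0) : mon A y = 1 :=
  mon_TD (D := E.D) hy (by rintro _ ⟨c, hc, rfl⟩; exact h c hc)

theorem cor_neg' {a : Fin l → ℤ} (ha : TO.X.Rt C l a) : E.cor (-a) = -E.cor a := E.D.cor_neg ((E.rt_iff a).2 ha)

variable (hζ : IsPrimitiveRoot ζ 5) (T : Tb hp u x rt) (h5 : 5 ≠ r)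
include hζ T h5

namespace Fo

variable {β : MulAut ↥(C.group k)} {z : M.Group} {c : ↥(C.group k)} (h : Fo E ζ u x β z 1 c)
include h

omit T h5 in
theorem e1 {v : Fin l → ZMod 5} (hv : v ∈ BB u x) : β (E.e ζ v) = E.e ζ (mv (wm X z) v) := by
  rw [h.e hζ hv, Int.cast_one, one_smul]

theorem td1 {y : Fin l → kˣ} (hy : E.τ y ∈ Td E rt) : β (E.τ y) = E.τ (mon (wm X z) y) := by
  rw [(h.td hζ T h5 hy).1, one_smul]

omit h5 in
theorem ac_eq (h1 : ∀ v ∈ BB u x, β (E.e ζ v) = E.e ζ v) {a : P5} (ha : a ≠ 0) : ac hp z (rt a) = rt a := by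
  rw [T.scal (X := X) (mul_one 1) (fun v hv => E.e_inj hζ (by rw [← h.e1 hζ hv, h1 v hv, one_smul])) ha, one_smul]

theorem cent (h1 : ∀ v ∈ BB u x, β (E.e ζ v) = E.e ζ v) {t : ↥(C.group k)} (ht : t ∈ Td E rt) : β t = t := by
  obtain ⟨y, rfl⟩ := exists_τ ht
  have h2 := mon_Td ht (A := wm X z - 1) fun a ha => by
    rw [sub_mulVec, wm_cor z (T.root a ha), h.ac_eq hζ T h1 ha, one_mulVec, sub_self]
  rw [mon_sub, mon_one, mul_inv_eq_one] at h2
  rw [h.td1 hζ T h5 ht, h2]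

theorem neg (h1 : ∀ v ∈ BB u x, β (E.e ζ v) = (E.e ζ v)⁻¹) {t : ↥(C.group k)} (ht : t ∈ Td E rt) : β t = t⁻¹ := by
  obtain ⟨y, rfl⟩ := exists_τ ht
  have h2 := mon_Td ht (A := wm X z + 1) fun a ha => by
    rw [add_mulVec, wm_cor z (T.root a ha), T.scal (X := X) (s := -1) (s' := -1) (by norm_num)
      (fun v hv => E.e_inj hζ (by rw [← h.e1 hζ hv, h1 v hv, neg_one_smul, E.e_neg hζ])) ha, neg_one_smul, T.neg,
      cor_neg' (T.root a ha), one_mulVec, neg_add_cancel]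
  rw [mon_add, mon_one, mul_eq_one_iff_eq_inv] at h2
  rw [h.td1 hζ T h5 ht, h2, map_inv]

theorem three (h1 : ∀ v ∈ BB u x, E.e ζ v * β (E.e ζ v) * β (β (E.e ζ v)) = 1) {t : ↥(C.group k)} (ht : t ∈ Td E rt) :
    t * β t * β (β t) = 1 := by
  obtain ⟨y, rfl⟩ := exists_τ ht
  have h0 := h.pre hζ h5
  have h2 := mon_Td ht (A := 1 + wm X z + wm X z * wm X z) fun a ha => by
    obtain ⟨h3, h4, h6⟩ := T.three h0 (fun v hv => (E.e_eq_one hζ).1 (by
      rw [E.e_add hζ, E.e_add hζ, ← h.e1 hζ (h0 v hv), ← h.e1 hζ hv, h1 v hv])) ha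
    have h7 := T.root a ha
    have h8 : E.cor (rt a + ac hp z (rt a)) = E.cor (rt a) + E.cor (ac hp z (rt a)) :=
      cor_add (D := E.D) ((E.rt_iff _).2 h7) ((E.rt_iff _).2 (rt_ac z h7)) h3 h4
    have h9 : TO.X.Rt C l (rt a + ac hp z (rt a)) := by
      rw [← neg_neg (rt a + _), ← h6]
      exact (E.rt_iff _).1 ((E.rt_iff _).2 (rt_ac z (rt_ac z h7))).neg
    rw [add_mulVec, add_mulVec, ← mulVec_mulVec, wm_cor z h7, wm_cor z (rt_ac z h7), h6, cor_neg' h9, h8, one_mulVec,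
      add_neg_cancel]
  have h3 := h.td1 hζ T h5 ht
  have h4 := (h.td hζ T h5 ht).2
  rw [h3] at h4
  rw [h3, h.td1 hζ T h5 h4, ← map_mul, ← map_mul, ← mon_mul, ← map_one E.τ, ← h2, mon_add, mon_add, mon_one]

end Fo

/-! ### the action of `F` -/

variable {q : ℤ} {g : M.Group} (hA : E.A = q • wm X g) (hq : Pw r q) (hf : ∀ v ∈ BB u x, mv E.A v = v)
include hA hq hf

omit T h5 in
theorem fo_F : Fo E ζ u x X.F g q 1 :=
  ⟨one_mem _, fun y => by rw [E.F_τ, hA, one_mul, inv_one, mul_one], hq, fun v hv => by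
    rw [(E.fix_iff hζ).2 (hf v hv)]
    exact ⟨v, hv, rfl⟩⟩

omit hζ in
theorem ac_g {a : P5} (ha : a ≠ 0) : ac hp g (rt a) = rt ((q : ZMod 5) • a) :=
  T.scal (X := X) (mul_inv_cancel₀ (hq.cast_ne h5)) (fun v hv => by
    have h1 := hf v hv
    rw [hA, smul_mv] at h1
    rw [eq_inv_smul_iff₀ (hq.cast_ne h5), h1]) ha

omit hζ in
theorem g_rt {a : P5} (ha : a ≠ 0) : E.D.g (rt a) = rt (((|q| : ℤ) : ZMod 5) • a) := by
  have h0 := hq.cast_ne h5
  have h1 : ∀ b : Fin l → ℤ, E.D.ψ b = q • (b ᵥ* wm X g) := fun b => by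
    refine (E.D.wt_ψ b).trans ?_
    show b ᵥ* E.A = _
    rw [hA, vecMul_smul]
  have h2 := (E.rt_iff _).2 (T.root a ha)
  have h3 := (E.rt_iff _).2 (T.root _ (smul_ne_zero h0 ha))
  rcases lt_or_gt_of_ne hq.ne_zero with h | h
  · rw [abs_of_neg h, Int.cast_neg, neg_smul, T.neg]
    refine (E.D.eq_g_of_ψ h2 h3.neg (neg_pos.2 h) ((h1 (-rt ((q : ZMod 5) • a))).trans ?_)).symm
    rw [← ac_g T h5 hA hq hf ha, neg_vecMul, ac_wm, smul_neg]
    exact (neg_smul _ _).symm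
  · rw [abs_of_pos h]
    refine (E.D.eq_g_of_ψ h2 h3 h ?_).symm
    rw [h1, ← ac_g T h5 hA hq hf ha, ac_wm]
    rfl

/-- the exponent of the rational points of the torus -/
theorem pow_Td (h2 : (q : ZMod 5) * q = -1) {t : ↥(C.group k)} (ht : t ∈ Td E rt) (hF : X.F t = t) :
    t ^ (q.natAbs ^ 2 + 1) = 1 := by
  obtain ⟨y, rfl⟩ := exists_τ ht
  have h0 := hq.cast_ne h5
  have h3 := mon_Td ht (A := E.A * E.A + (q * q) • 1) fun a ha => by
    rw [add_mulVec, ← mulVec_mulVec, hA, smul_mulVec, smul_mulVec, mulVec_smul, wm_cor g (T.root a ha),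
      wm_cor g (rt_ac g (T.root a ha)), ac_g T h5 hA hq hf ha, ac_g T h5 hA hq hf (smul_ne_zero h0 ha), smul_smul,
      smul_smul, h2, neg_one_smul, T.neg, cor_neg' (T.root a ha), smul_mulVec, one_mulVec, smul_neg, neg_add_cancel]
  have h4 := E.fix_τ.1 hF
  rw [mon_add, mon_mul, h4, h4, mon_zsmul, mon_one, ← Int.natAbs_mul_self', ← Nat.cast_mul, zpow_natCast,
    ← pow_succ'] at h3
  rw [← map_pow, pow_two, h3, map_one]

end Cfsg.Agent.TO.X5
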