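import Cfsg.Agent.TO.X5.QB

/-!
# S4817, exceptional groups, `p = 5` : the lines of the plane (helper34)
-/

set_option autoImplicit false
set_option linter.unusedSectionVars false
set_option maxHeartbeats 200000

namespace Cfsg.Agent.TO.X5

open CoxeterSystem Cfsg Cfsg.Lie Cfsg.Lie.ChevalleyDatum Matrix
open Cfsg.Agent.ChevalleyStructure Cfsg.Agent.ChevalleyStructure.Elts Cfsg.Agent.ChevalleyStructure.CoxeterGeom
  Cfsg.Agent.ChevalleyStructure.CoxeterGeomTypes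
open Cfsg.Agent.Tits.Roots Cfsg.Agent.Nodes Cfsg.Agent.Nodes.RGDChev Cfsg.Agent.Nodes.Coroot Cfsg.Agent.TO.X
open Cfsg.Agent.DL Cfsg.Agent.KZ.DatX Cfsg.Agent.BpExc.Zc

attribute [local instance] fact5

variable {C : ChevalleyDatum} {l : ℕ} {M : CoxeterMatrix (Fin l)} {hp : IsType C l M} {r : ℕ} [Fact r.Prime]
  {k : Type} [Field k] [CharP k r] [IsAlgClosed k] {Mx : Matrix (Fin l) (Fin l) ℤ} {X : XF hp r k Mx}
  {E : Tor X} {ζ : kˣ} {u x : Fin l → ZMod 5} {rt : P5 → Fin l → ℤ}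
  {Adm : Matrix (Fin l) (Fin l) ℤ → Prop} {d : ℕ} {S : Type} [Group S] {s : XS X Adm d S}
  {hζ : IsPrimitiveRoot ζ 5} {Γ : Subgroup (MulAut S)} {Q : Subgroup S} {q : ℤ} {g : M.Group}

theorem Pr.conj_x {Y : Type} [Group Y] {N : Type} [Fintype N] [DecidableEq N] {ρ : Y →* GL N k} {F : MulAut Y}
    {G : Subgroup Y} {D : Datum r ρ F G} {a b : D.I → ℤ} (h : Pr D a b) {m : Y} (hm : D.Rp (D.rf a * D.rf b) m) (s : kˣ) :
    m * ct D a s * m⁻¹ = ct D a s⁻¹ := by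
  have h8 : D.act (D.rf a * D.rf b) a = D.act (D.rf a) (D.act (D.rf b) a) := rep_mul_apply _ _ _ _ _
  rw [conj_ct hm h.la.1, h8, D.act_rf h.lb.1, h.ab, zero_smul, sub_zero, D.act_rf_self h.la.1, ct_neg h.la.1]

/-- reduction modulo five -/
def cv (m : Fin l → ℤ) : Fin l → ZMod 5 := fun i => (m i : ZMod 5)

theorem vl_cv (a m : Fin l → ℤ) : vl a (cv m) = ((a ⬝ᵥ m : ℤ) : ZMod 5) := by simp [vl, cv, dotProduct]

theorem mv_cv (A : Matrix (Fin l) (Fin l) ℤ) (m : Fin l → ℤ) : mv A (cv m) = cv (A *ᵥ m) :=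
  funext fun i => vl_cv (A i) m

theorem dot_cor {a : Fin l → ℤ} (ha : TO.X.Rt C l a) (b : Fin l → ℤ) : b ⬝ᵥ E.cor a = cp hp b a :=
  E.D.pair_cor ((E.rt_iff a).2 ha) b

variable (u x) in
/-- the vector which is killed by the form `a` -/
def uu (a : P5) : Fin l → ZMod 5 := a.2 • u + (-a.1) • x

theorem uu_mem (a : P5) : uu u x a ∈ BB u x := mem_BB.2 ⟨_, _, rfl⟩

variable (rt) in
/-- the roots of `D₄` which vanish on a vector -/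
def Dl (v : Fin l → ZMod 5) : Set (Fin l → ℤ) := {b | b ∈ Del rt ∧ vl b v = 0}

theorem Dl_le (v : Fin l → ZMod 5) : Dl rt v ⊆ Del rt := fun _ h => h.1

theorem Tb.uu_ne (T : Tb hp u x rt) {a : P5} (ha : a ≠ 0) : uu u x a ≠ 0 := fun e =>
  ha (Prod.ext (neg_eq_zero.1 (T.ind e).2) (T.ind e).1)

theorem Tb.Dl_eq (T : Tb hp u x rt) {a : P5} (ha : a ≠ 0) {c : ZMod 5} (hc : c = 2 ∨ c = 3) :
    Dl rt (uu u x a) = {rt a, -rt a, rt (c • a), -rt (c • a)} := by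
  have h1 : ∀ b, b ≠ 0 → (vl (rt b) (uu u x a) = 0 ↔ b = a ∨ b = -a ∨ b = c • a ∨ b = -(c • a)) := fun b hb => by
    rw [← ln_iff a ha c hc b hb, uu, vl_pv, T.cl_rt b hb, neg_mul, ← sub_eq_add_neg]
  have h2 := (ln_of a ha c hc).1
  rw [← T.neg, ← T.neg]
  ext b
  constructor
  · rintro ⟨⟨b, hb, rfl⟩, h⟩
    rcases (h1 b hb).1 h with rfl | rfl | rfl | rfl <;> simp
  · rintro (rfl | rfl | rfl | rfl)
    · exact ⟨⟨_, ha, rfl⟩, (h1 _ ha).2 (by simp)⟩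
    · exact ⟨⟨_, neg_ne_zero.2 ha, rfl⟩, (h1 _ (neg_ne_zero.2 ha)).2 (by simp)⟩
    · exact ⟨⟨_, h2, rfl⟩, (h1 _ h2).2 (by simp)⟩
    · exact ⟨⟨_, neg_ne_zero.2 h2, rfl⟩, (h1 _ (neg_ne_zero.2 h2)).2 (by simp)⟩

theorem comm_Dl (hζ : IsPrimitiveRoot ζ 5) (T : Tb hp u x rt) {v : Fin l → ZMod 5} {y : ↥(C.group k)}
    (hy : y ∈ E.S (Dl rt v)) : E.e ζ v * y = y * E.e ζ v :=
  E.cen_le (Z := {E.e ζ v}) (Set.singleton_subset_iff.2 (E.e_mem ζ v)) (E.D.S_le_cen _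
    (BNOf.RGD.Sup_mono (S' := E.D.Sz {E.e ζ v}) (fun a ha => E.mem_Sz.2 ⟨T.drt ha.1, by
      rintro _ rfl
      exact (E.χ_e_eq_one hζ).2 ha.2⟩) hy)) _ rfl

theorem Fo.Dl (hζ : IsPrimitiveRoot ζ 5) (T : Tb hp u x rt) (h5 : 5 ≠ r) (cz : CommZ E.D.cs E.D.h E.D.X)
    {β : MulAut ↥(C.group k)} {z : M.Group} {n : ℤ} {c : ↥(C.group k)} (h : Fo E ζ u x β z n c) {v : Fin l → ZMod 5}
    (hv : v ∈ BB u x) (h1 : β (E.e ζ v) = E.e ζ v) {y : ↥(C.group k)} (hy : y ∈ E.S (Dl rt v)) :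
    β y ∈ E.S (Dl rt v) := by
  refine h.S hζ T cz (Dl_le v) (Dl_le v) (fun a ha => ?_) hy
  have h2 : vl (ac hp z a) v = 0 := by
    rw [← E.e_inj hζ ((h.e hζ hv).symm.trans h1), vl_smul, vl_ac, ha.2, mul_zero]
  have h3 := T.ac_mem (h.pre hζ h5) ha.1
  exact ⟨⟨h3, h2⟩, T.dneg h3, by rw [← neg_eq_zero, ← h2]; simp [vl]⟩

theorem Fo.Del (hζ : IsPrimitiveRoot ζ 5) (T : Tb hp u x rt) (h5 : 5 ≠ r) (cz : CommZ E.D.cs E.D.h E.D.X)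
    {β : MulAut ↥(C.group k)} {z : M.Group} {n : ℤ} {c : ↥(C.group k)} (h : Fo E ζ u x β z n c)
    {y : ↥(C.group k)} (hy : y ∈ E.S (Del rt)) : β y ∈ E.S (Del rt) :=
  h.S hζ T cz le_rfl le_rfl (fun _ ha => ⟨T.ac_mem (h.pre hζ h5) ha, T.dneg (T.ac_mem (h.pre hζ h5) ha)⟩) hy

namespace Su

variable (U : Su s hζ Γ Q E u x rt q g)
include U

theorem sq : (q : ZMod 5) * q = -1 := by
  by_contra h
  have h0 : ((1, 0) : P5) ≠ 0 := by decide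
  have h1 := U.T.root _ h0
  have h2 : ∀ c : ZMod 5, c ≠ 0 → ¬ c * c = -1 → c = 1 ∨ c = -1 := by decide
  have h3 : cv (E.cor (rt (1, 0))) ∈ BB u x := U.mem_BB (by
    rw [U.hA, smul_mv, mv_cv, wm_cor g h1, ac_g U.T U.h5 U.hA U.hq U.hf h0]
    rcases h2 _ (U.hq.cast_ne U.h5) h with e | e
    · rw [e, one_smul, one_smul]
    · rw [e, neg_one_smul, neg_one_smul, U.T.neg, cor_neg' h1]
      funext i
      simp [cv]) fun a ha e => by rw [vl_cv, dot_cor h1, (U.T.psi a ha).1 e _ h0, Int.cast_zero]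
  obtain ⟨i, j, e⟩ := X5.mem_BB.1 h3
  have h4 : ∀ c, c ≠ 0 → i * c.1 + j * c.2 = (gm c (1, 0) : ℤ) := fun c hc => by
    have h5 := vl_pv (u := u) (x := x) (rt c) i j
    rw [e, vl_cv, dot_cor h1, U.T.gram _ _ hc h0, U.T.cl_rt c hc] at h5
    exact h5.symm
  have h5 := h4 (1, 0) h0
  have h6 := h4 (2, 0) (by decide)
  rw [show gm (1, 0) (1, 0) = 2 by decide] at h5
  rw [show gm (2, 0) (1, 0) = 0 by decide] at h6
  simp only [mul_one, mul_zero, add_zero] at h5 h6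
  rw [h5] at h6
  exact absurd h6 (by decide)

theorem c0 : ((|q| : ℤ) : ZMod 5) = 2 ∨ ((|q| : ℤ) : ZMod 5) = 3 := by
  have h1 : ∀ c : ZMod 5, c * c = -1 → c = 2 ∨ c = 3 := by decide
  exact h1 _ (by rw [← Int.cast_mul, abs_mul_abs_self, Int.cast_mul, U.sq])

theorem pow_eq {t : ↥(C.group k)} (ht : t ∈ Td E rt) (hF : X.F t = t) : t ^ (q.natAbs ^ 2 + 1) = 1 :=
  pow_Td hζ U.T U.h5 U.hA U.hq U.hf U.sq ht hF

variable {a : P5} (ha : a ≠ 0)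
include ha

theorem pr {c : ZMod 5} (hc : c = 2 ∨ c = 3) : Pr E.D (rt a) (rt (c • a)) :=
  have h := ln_of a ha c hc
  ⟨U.cz, U.T.dlg ⟨a, ha, rfl⟩, U.T.dlg ⟨_, h.1, rfl⟩, (U.T.gram _ _ ha h.1).trans h.2.1,
    (U.T.gram _ _ h.1 ha).trans h.2.2.1⟩

theorem ga : E.D.g (rt a) = rt (((|q| : ℤ) : ZMod 5) • a) := g_rt U.T U.h5 U.hA U.hq U.hf ha

theorem gb : E.D.g (rt (((|q| : ℤ) : ZMod 5) • a)) = -rt a := by
  have h := ln_of a ha _ U.c0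
  rw [U.ga h.1, h.2.2.2.1, U.T.neg]

/-- the elements which centralize the plane -/
theorem eq_ct {c : ZMod 5} (hc : c = 2 ∨ c = 3) {y : ↥(C.group k)} (hy : y ∈ E.S (Dl rt (uu u x a)))
    (h : ∀ v ∈ BB u x, y * E.e ζ v * y⁻¹ = E.e ζ v) : ∃ s t, y = cT E (rt a) s * cT E (rt (c • a)) t := by
  rw [U.T.Dl_eq ha hc] at hy
  exact (U.pr ha hc).eq_ct hy
    (fun s => (mul_inv_eq_iff_eq_mul.1 (cent_Td hζ U.T U.h5 h (ct_TD (D := E.D) (Δ := Del rt) ⟨a, ha, rfl⟩ s))).symm)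
    fun s => (mul_inv_eq_iff_eq_mul.1 (cent_Td hζ U.T U.h5 h
      (ct_TD (D := E.D) (Δ := Del rt) ⟨_, (ln_of a ha c hc).1, rfl⟩ s))).symm

theorem mem_Td {y : ↥(C.group k)} (hy : y ∈ E.S (Dl rt (uu u x a)))
    (h : ∀ v ∈ BB u x, y * E.e ζ v * y⁻¹ = E.e ζ v) : y ∈ Td E rt := by
  obtain ⟨s, t, rfl⟩ := U.eq_ct ha (.inl rfl) hy h
  exact mul_mem (ct_TD (D := E.D) (Δ := Del rt) ⟨a, ha, rfl⟩ s)
    (ct_TD (D := E.D) (Δ := Del rt) ⟨_, (ln_of a ha 2 (.inl rfl)).1, rfl⟩ t)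

/-- the exponent -/
theorem pow_K {y : ↥(C.group k)} (hy : y ∈ E.S (Dl rt (uu u x a)))
    (h : ∀ t, y * t * y⁻¹ ∈ Bt E ζ u x ↔ t ∈ Bt E ζ u x) (hF : X.F y = y) : y ^ (4 * (q.natAbs ^ 2 + 1)) = 1 := by
  obtain ⟨z, c, h1⟩ := fo_conj h
  have h2 := U.T.four (h1.pre hζ U.h5) (uu_mem a) (U.T.uu_ne ha) (E.e_inj hζ (by
    rw [← h1.e1 hζ (uu_mem a), MulAut.conj_apply, ← comm_Dl hζ U.T hy, mul_inv_cancel_right]))
  rw [pow_mul]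
  exact U.pow_eq (U.mem_Td ha (pow_mem hy 4) fun v hv => by rw [h1.conj_pow hζ U.h5 4 hv, h2 v hv])
    (by rw [map_pow, hF])

/-- an element of the normaliser which does not centralize -/
theorem exists_x : ∃ y ∈ E.S (Dl rt (uu u x a)), (∀ t, y * t * y⁻¹ ∈ Bt E ζ u x ↔ t ∈ Bt E ζ u x) ∧ X.F y = y ∧
    ¬ ∀ v ∈ BB u x, y * E.e ζ v * y⁻¹ = E.e ζ v := by
  have h0 := U.pr ha U.c0
  obtain ⟨y, h1, h2, h3⟩ := h0.exists_x (U.ga ha) (U.gb ha)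
  have h4 : E.Rp (E.rf (rt a) * E.rf (rt (((|q| : ℤ) : ZMod 5) • a))) y := h3
  have h5 : ∀ c, c ≠ 0 → ∀ b, TO.X.Rt C l b → cl u x b = 0 → b ᵥ* wm X (E.rf (rt c)) = b := fun c hc b hb e => by
    rw [E.wm_rf (U.T.root c hc), vecMul_sub, vecMul_one, vecMul_vecMulVec, dot_cor (U.T.root c hc),
      (U.T.psi b hb).1 e c hc, zero_smul, sub_zero]
  have h6 : Pre X u x (E.rf (rt a) * E.rf (rt (((|q| : ℤ) : ZMod 5) • a))) := fun v hv => U.mem_BB (by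
    rw [← E.fix_iff hζ, ← E.conj_e hζ h4, map_mul, map_mul, map_inv, h2, U.fix_Bt ⟨v, hv, rfl⟩]) fun b hb e => by
    rw [← vl_vecMul, map_mul, ← vecMul_vecMul, h5 a ha b hb e, h5 _ (ln_of a ha _ U.c0).1 b hb e]
    exact ((E.mem_Sz_e hζ).1 ((mem_Psi hζ).2 ⟨hb, e⟩)).2 v hv
  refine ⟨y, by rwa [U.T.Dl_eq ha U.c0], fun t => ⟨?_, ?_⟩, h2, fun h => not_sq h0.la.1 fun s => ?_⟩
  · rintro ⟨v, hv, e⟩
    refine ⟨_, h6.inv v hv, ?_⟩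
    rw [← E.conj_e hζ h4.inv, e]
    group
  · rintro ⟨v, hv, rfl⟩
    exact ⟨_, h6 v hv, (E.conj_e hζ h4 v).symm⟩
  · have h7 := cent_Td hζ U.T U.h5 h (ct_TD (D := E.D) (Δ := Del rt) ⟨a, ha, rfl⟩ s)
    exact (h0.conj_x h3 s).symm.trans h7

end Su

end Cfsg.Agent.TO.X5
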