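import Cfsg.Agent.TO.X5.Four

/-!
# S4817, exceptional groups, `p = 5` : the involutions of the torus (helper34)
-/

set_option autoImplicit false
set_option linter.unusedSectionVars false
set_option maxHeartbeats 200000

namespace Cfsg.Agent.TO.X5

open CoxeterSystem Cfsg Cfsg.Lie Cfsg.Lie.ChevalleyDatum Matrix
open Cfsg.Agent.ChevalleyStructure Cfsg.Agent.ChevalleyStructure.Elts Cfsg.Agent.ChevalleyStructure.CoxeterGeom
  Cfsg.Agent.ChevalleyStructure.CoxeterGeomTypes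
open Cfsg.Agent.Tits.Roots Cfsg.Agent.Nodes Cfsg.Agent.Nodes.RGDChev Cfsg.Agent.Nodes.Coroot Cfsg.Agent.TO.X
open Cfsg.Agent.DL Cfsg.Agent.KZ.DatX Cfsg.Agent.BpExc.Zc

attribute [local instance] fact5

variable {C : ChevalleyDatum} {l : ℕ} {M : CoxeterMatrix (Fin l)} {hp : IsType C l M} {r : ℕ} [Fact r.Prime]
  {k : Type} [Field k] [CharP k r] [IsAlgClosed k] {Mx : Matrix (Fin l) (Fin l) ℤ} {X : XF hp r k Mx}
  {E : Tor X} {ζ : kˣ} {u x : Fin l → ZMod 5} {rt : P5 → Fin l → ℤ}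
  {Adm : Matrix (Fin l) (Fin l) ℤ → Prop} {d : ℕ} {S : Type} [Group S] {s : XS X Adm d S}
  {hζ : IsPrimitiveRoot ζ 5} {Γ : Subgroup (MulAut S)} {Q : Subgroup S} {q : ℤ} {g : M.Group}

variable (E rt) in
/-- the involution of a line -/
noncomputable def zz (a : P5) : ↥(C.group k) := cT E (rt a) (-1) * cT E (rt ((2 : ZMod 5) • a)) (-1)

theorem cT_neg {a : Fin l → ℤ} (ha : TO.X.Rt C l a) : cT E (-a) (-1) = cT E a (-1) :=
  (ct_neg (D := E.D) ((E.rt_iff a).2 ha) _).trans (by rw [inv_neg, inv_one]; rfl)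

theorem cp_neg {a : Fin l → ℤ} (ha : TO.X.Rt C l a) (b : Fin l → ℤ) : cp hp b (-a) = -cp hp b a :=
  have := finite_W hp M.toCoxeterSystem
  cpr_neg_right _ _ _ ((rt_iff' (hp := hp)).1 ha)

theorem Tb.zz_eq (T : Tb hp u x rt) {a : P5} (ha : a ≠ 0) {c : ZMod 5} (hc : c = 2 ∨ c = 3) :
    zz E rt a = cT E (rt a) (-1) * cT E (rt (c • a)) (-1) := by
  have h := ln_of a ha c hc
  rcases h.2.2.2.2.1 with e | e
  · rw [zz, e]
  · rw [zz, e, T.neg, cT_neg (T.root _ h.1)]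

theorem zz_Td {a : P5} (ha : a ≠ 0) : zz E rt a ∈ Td E rt :=
  mul_mem (ct_TD (D := E.D) (Δ := Del rt) ⟨a, ha, rfl⟩ _)
    (ct_TD (D := E.D) (Δ := Del rt) ⟨_, (ln_of a ha 2 (.inl rfl)).1, rfl⟩ _)

theorem Tb.cT_S (T : Tb hp u x rt) {a : P5} (ha : a ≠ 0) (s : kˣ) : cT E (rt a) s ∈ E.S (Del rt) :=
  BNOf.RGD.Sup_mono (S := {rt a, -rt a}) (by
    rintro _ (rfl | rfl)
    exacts [⟨a, ha, rfl⟩, T.dneg ⟨a, ha, rfl⟩]) (ct_S (D := E.D) ((E.rt_iff _).2 (T.root a ha)) s)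

theorem Tb.zz_S (T : Tb hp u x rt) {a : P5} (ha : a ≠ 0) : zz E rt a ∈ E.S (Del rt) :=
  mul_mem (T.cT_S ha _) (T.cT_S (ln_of a ha 2 (.inl rfl)).1 _)

theorem Tb.zz_mul (T : Tb hp u x rt) : zz E rt (1, 0) * zz E rt (1, 1) * zz E rt (1, 2) = 1 := by
  have h1 : ∀ a, a ≠ 0 → ∀ i, E.cor (rt a) i = cp hp (sr i) (rt a) := fun a ha i => by
    rw [← dot_cor (E := E) (T.root a ha), sr, single_dotProduct, one_mul]
  rw [zz, zz, zz, show (2 : ZMod 5) • ((1, 0) : P5) = (2, 0) by decide, show (2 : ZMod 5) • ((1, 1) : P5) = (2, 2) by decide,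
    show (2 : ZMod 5) • ((1, 2) : P5) = (2, 4) by decide]
  simp only [cT_eq, ← map_mul, ← coch_add]
  rw [← map_one E.τ]
  refine congrArg _ (funext fun i => ?_)
  rw [coch_apply, Pi.add_apply, Pi.add_apply, Pi.add_apply, Pi.add_apply, Pi.add_apply, h1 _ (by decide), h1 _ (by decide),
    h1 _ (by decide), h1 _ (by decide), h1 _ (by decide), h1 _ (by decide)]
  exact (T.par i).neg_one_zpow

namespace Su

variable (U : Su s hζ Γ Q E u x rt q g) (hr : r ≠ 2) {a : P5} (ha : a ≠ 0)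
include U hr ha

theorem F_cT : X.F (cT E (rt a) (-1)) = cT E (rt (((|q| : ℤ) : ZMod 5) • a)) (-1) := by
  refine (F_ct (D := E.D) ((E.rt_iff _).2 (U.T.root a ha)) _).trans ?_
  rw [U.ga ha, (((Fact.out : r.Prime).odd_of_ne_two hr).pow).neg_one_pow]
  rfl

theorem F_zz : X.F (zz E rt a) = zz E rt a := by
  have h := ln_of a ha _ U.c0
  rw [U.T.zz_eq ha U.c0, map_mul, U.F_cT hr ha, U.F_cT hr h.1, h.2.2.2.1, U.T.neg, cT_neg (U.T.root a ha)]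
  exact E.T_comm (ct_mem _ _) (ct_mem _ _)

theorem invol {y : ↥(C.group k)} (hy : y ∈ E.S (Dl rt (uu u x a)))
    (h : ∀ v ∈ BB u x, y * E.e ζ v * y⁻¹ = E.e ζ v) (hF : X.F y = y) (h2 : y ^ 2 = 1) : y = 1 ∨ y = zz E rt a := by
  have h0 := ln_of a ha _ U.c0
  obtain ⟨s, t, rfl⟩ := U.eq_ct ha U.c0 hy h
  obtain ⟨c, c1, c2⟩ := U.T.sep a ha
  obtain ⟨d, d1, d2⟩ := U.T.sep _ h0.1
  rw [U.T.zz_eq ha U.c0]
  refine (U.pr ha U.c0).invol (U.ga ha) (U.gb ha) hr (c := c) c1 (show cp hp c _ = 0 from ?_) (d := d)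
    (show cp hp d _ = 0 from ?_) d1 hF h2
  · rcases h0.2.2.2.2.1 with e | e
    · rwa [e] at c2
    · rwa [e, U.T.neg, cp_neg (U.T.root _ h0.1), neg_eq_zero] at c2
  · rcases h0.2.2.2.2.2 with e | e
    · rwa [e] at d2
    · rwa [e, U.T.neg, cp_neg (U.T.root _ ha), neg_eq_zero] at d2

end Su

/-- the exponent -/
theorem Su.odd (U : Su s hζ Γ Q E u x rt q g) :
    (r = 2 ∧ Odd (q.natAbs ^ 2 + 1)) ∨ (r ≠ 2 ∧ ∃ o, Odd o ∧ q.natAbs ^ 2 + 1 = o * 2) := by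
  obtain ⟨j, hj⟩ := U.hq
  have h1 : q.natAbs = r ^ j := by rcases hj with rfl | rfl <;> simp [Int.natAbs_pow]
  by_cases hr : r = 2
  · refine .inl ⟨hr, Even.add_one ?_⟩
    have h2 : j ≠ 0 := fun e => by
      have h3 := U.c0
      rw [← Int.natCast_natAbs, h1, e, pow_zero] at h3
      exact absurd h3 (by decide)
    rw [h1, hr, ← pow_mul]
    exact even_two.pow_of_ne_zero (mul_ne_zero h2 two_ne_zero)
  · obtain ⟨m, hm⟩ := ((Fact.out : r.Prime).odd_of_ne_two hr).pow (n := j)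
    exact .inr ⟨hr, 2 * (m * m + m) + 1, ⟨_, rfl⟩, by rw [h1, hm]; ring⟩

theorem cop_three (n : ℕ) : (n ^ 2 + 1).Coprime 3 := by
  refine ((Nat.Prime.coprime_iff_not_dvd (by norm_num)).2 fun h => ?_).symm
  have h1 : ∀ c : ZMod 3, c ^ 2 + 1 ≠ 0 := by decide
  exact h1 n (by exact_mod_cast (ZMod.natCast_eq_zero_iff _ 3).2 h)

end Cfsg.Agent.TO.X5
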