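import Cfsg.Agent.TO.X5.Su

/-!
# S4817, exceptional groups, `p = 5` : the defect group is the plane (helper34)
-/

set_option autoImplicit false
set_option linter.unusedSectionVars false
set_option maxHeartbeats 200000

namespace Cfsg.Agent.TO.X5

open CoxeterSystem Cfsg Cfsg.Lie Cfsg.Lie.ChevalleyDatum Matrix
open Cfsg.Agent.ChevalleyStructure Cfsg.Agent.ChevalleyStructure.Elts Cfsg.Agent.ChevalleyStructure.CoxeterGeom
  Cfsg.Agent.ChevalleyStructure.CoxeterGeomTypes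
open Cfsg.Agent.Tits.Roots Cfsg.Agent.Nodes Cfsg.Agent.Nodes.RGDChev Cfsg.Agent.Nodes.Coroot Cfsg.Agent.TO.X
open Cfsg.Agent.DL Cfsg.Agent.KZ.DatX Cfsg.Agent.BpExc.Zc

attribute [local instance] fact5

variable {C : ChevalleyDatum} {l : ℕ} {M : CoxeterMatrix (Fin l)} {hp : IsType C l M} {r : ℕ} [Fact r.Prime]
  {k : Type} [Field k] [CharP k r] [IsAlgClosed k] {Mx : Matrix (Fin l) (Fin l) ℤ} {X : XF hp r k Mx}
  {E : Tor X} {ζ : kˣ} {u x : Fin l → ZMod 5} {rt : P5 → Fin l → ℤ}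
  {Adm : Matrix (Fin l) (Fin l) ℤ → Prop} {d : ℕ} {S : Type} [Group S] {s : XS X Adm d S}
  {hζ : IsPrimitiveRoot ζ 5} {Γ : Subgroup (MulAut S)} {Q : Subgroup S} {q : ℤ} {g : M.Group}

theorem Tb.ind (T : Tb hp u x rt) {i j : ZMod 5} (h : i • u + j • x = 0) : i = 0 ∧ j = 0 := by
  have h1 := vl_pv (u := u) (x := x) (rt (1, 0)) i j
  have h2 := vl_pv (u := u) (x := x) (rt (0, 1)) i j
  rw [h, T.cl_rt _ (by decide), show ∀ a, vl a (0 : Fin l → ZMod 5) = 0 from fun a => by simp [vl]] at h1 h2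
  exact ⟨by simpa using h1.symm, by simpa using h2.symm⟩

theorem finrank_BB (h : ∀ i j : ZMod 5, i • u + j • x = 0 → i = 0 ∧ j = 0) : Module.finrank (ZMod 5) (BB u x) = 2 := by
  have h1 := finrank_span_eq_card (LinearIndependent.pair_iff.2 h)
  rwa [Matrix.range_cons_cons_empty] at h1

theorem e_pv (hζ : IsPrimitiveRoot ζ 5) (i j : ZMod 5) : E.e ζ (i • u + j • x) = E.e ζ u ^ i.val * E.e ζ x ^ j.val := by
  rw [E.e_add hζ, E.e_smul hζ, E.e_smul hζ]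

variable (E u x) in
/-- the plane as a subgroup -/
def Bs (hζ : IsPrimitiveRoot ζ 5) : Subgroup ↥(C.group k) where
  carrier := Bt E ζ u x
  one_mem' := ⟨0, zero_mem (BB u x), E.e_zero hζ⟩
  mul_mem' := by
    rintro _ _ ⟨a, ha, rfl⟩ ⟨b, hb, rfl⟩
    exact ⟨a + b, add_mem ha hb, E.e_add hζ a b⟩
  inv_mem' := by
    rintro _ ⟨a, ha, rfl⟩
    exact ⟨-a, neg_mem ha, E.e_neg hζ a⟩

theorem Fo.conj_pow (hζ : IsPrimitiveRoot ζ 5) (h5 : 5 ≠ r) {y c : ↥(C.group k)} {z : M.Group}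
    (h : Fo E ζ u x (MulAut.conj y) z 1 c) (n : ℕ) {v : Fin l → ZMod 5} (hv : v ∈ BB u x) :
    y ^ n * E.e ζ v * (y ^ n)⁻¹ = E.e ζ (mv (wm X (z ^ n)) v) := by
  induction n with
  | zero => rw [pow_zero, pow_zero, map_one, mv_one, one_mul, inv_one, mul_one]
  | succ n ih =>
    rw [pow_succ' z, mv_wm, ← h.e1 hζ ((h.pre hζ h5).pow n v hv), ← ih, MulAut.conj_apply, pow_succ']
    group

/-- the elements which centralize the plane centralize the torus -/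
theorem cent_Td (hζ : IsPrimitiveRoot ζ 5) (T : Tb hp u x rt) (h5 : 5 ≠ r) {y : ↥(C.group k)}
    (h : ∀ v ∈ BB u x, y * E.e ζ v * y⁻¹ = E.e ζ v) {t : ↥(C.group k)} (ht : t ∈ Td E rt) : y * t * y⁻¹ = t := by
  obtain ⟨z, c, h1⟩ := fo_conj (E := E) (ζ := ζ) (u := u) (x := x) (y := y) fun t => ⟨by
    rintro ⟨v, hv, e⟩
    exact ⟨v, hv, (MulAut.conj y).injective ((h v hv).trans e)⟩, by
    rintro ⟨v, hv, rfl⟩
    exact ⟨v, hv, (h v hv).symm⟩⟩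
  exact h1.cent hζ T h5 h ht

namespace Su

variable (U : Su s hζ Γ Q E u x rt q g)
include U

theorem le : BB u x ≤ vs s hζ E Q := Submodule.span_le.2 (by
  rintro _ (rfl | rfl)
  exacts [U.hu, U.hx])

theorem hf : ∀ v ∈ BB u x, mv E.A v = v := fun _ hv => fix_of_mem_vs s hζ (U.le hv)

theorem eq_BB (E' : Tor X) {u' x' : Fin l → ZMod 5} (hu : E'.e ζ u' = E.e ζ u) (hx : E'.e ζ x' = E.e ζ x) :
    BB u' x' = vs s hζ E' (BHZ.Nil.KK 5 Q) := by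
  refine Submodule.eq_of_le_of_finrank_le (Submodule.span_le.2 ?_) ?_
  · rintro _ (rfl | rfl)
    · obtain ⟨a, h1, h2⟩ := U.hu
      exact ⟨a, le_KK h1, h2.trans hu.symm⟩
    · obtain ⟨a, h1, h2⟩ := U.hx
      exact ⟨a, le_KK h1, h2.trans hx.symm⟩
  · rw [finrank_BB fun i j h => U.T.ind ((E.e_eq_one hζ).1 (by rw [e_pv hζ, ← hu, ← hx, ← e_pv hζ, h, E'.e_zero hζ]))]
    exact U.rk E'

/-- closure -/
theorem mem_BB {v : Fin l → ZMod 5} (hF : mv E.A v = v)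
    (h : ∀ a, TO.X.Rt C l a → cl u x a = 0 → vl a v = 0) : v ∈ BB u x := by
  rw [U.eq_BB E rfl rfl]
  exact mem_vs_KK s hζ U.hd E (B := BB u x) U.le hF fun a h1 h2 => h a h1 (Prod.ext (h2 u u_mem) (h2 x x_mem))

theorem fix_Bt {t : ↥(C.group k)} (ht : t ∈ Bt E ζ u x) : X.F t = t := by
  obtain ⟨v, hv, rfl⟩ := ht
  exact (E.fix_iff hζ).2 (U.hf v hv)

theorem mem_of_cen {a : S} (ha : a ∈ Q) (h : s.ι a ∈ E.cen (Bt E ζ u x)) : s.ι a ∈ Bt E ζ u x := by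
  obtain ⟨E', h1, h2⟩ := E.exists_tor_cen Bt_le (fun z hz => by rwa [U.fix_Bt hz]) h (F_ι s a)
    (not_dvd_of_pow U.h5 (n := 1) (by rw [pow_one, ← map_pow, Pure.pow_eq hζ U.P ha, map_one]))
  obtain ⟨u', hu⟩ := E'.exists_e hζ (h1 ⟨u, u_mem, rfl⟩) (E.e_pow hζ u)
  obtain ⟨x', hx⟩ := E'.exists_e hζ (h1 ⟨x, x_mem, rfl⟩) (E.e_pow hζ x)
  obtain ⟨v, h3, h4⟩ := exists_vec s hζ U.P E' ha h2
  have h5 := vs_mono s hζ E' (le_KK (p := 5)) h3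
  rw [← U.eq_BB E' hu hx] at h5
  obtain ⟨i, j, rfl⟩ := X5.mem_BB.1 h5
  rw [h4, e_pv hζ, hu, hx, ← e_pv hζ]
  exact ⟨_, X5.mem_BB.2 ⟨i, j, rfl⟩, rfl⟩

theorem mem_cen {y : ↥(C.group k)} (h : ∀ t ∈ Td E rt, y * t * y⁻¹ = t) (h1 : y ^ 5 = 1) : y ∈ E.cen (Bt E ζ u x) := by
  obtain ⟨p, p1, p2, p3⟩ : ∃ p : ℕ, ¬ r ∣ p ∧ 3 ≤ p ∧ p.Coprime 5 := by
    by_cases h3 : r = 3
    · exact ⟨4, by rw [h3]; norm_num, by norm_num, by norm_num⟩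
    · exact ⟨3, fun e => h3 ((Nat.prime_dvd_prime_iff_eq Fact.out (by norm_num)).1 e), le_rfl, by norm_num⟩
  obtain ⟨ξ, hξ⟩ := exists_prim k p1
  have h2 := E6.mem_cen_of_cop E.D (Z := {t | ∃ c, c ≠ 0 ∧ t = cT E (rt c) ξ}) (y := y) (by
    rintro _ ⟨c, -, rfl⟩
    exact ct_mem _ _) (Subgroup.mem_top y) (by
    rintro _ ⟨c, hc, rfl⟩
    exact (mul_inv_eq_iff_eq_mul.1 (h _ (ct_TD (D := E.D) (Δ := Del rt) ⟨c, hc, rfl⟩ ξ))).symm) (n := 5) (by norm_num) (by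
    rintro _ ⟨c, -, rfl⟩
    exact ⟨p, p3, by rw [cT_eq, ← map_pow, ← map_pow, hξ.pow_eq_one, map_one, map_one]⟩) (h1 ▸ one_mem _)
  refine (sup_le_sup_left (BNOf.RGD.Sup_mono (S' := E.D.Sz (Bt E ζ u x)) fun b hb => ?_) _) h2
  have h3 := (E.rt_iff b).1 hb.1
  refine (mem_Psi hζ).2 ⟨h3, (U.T.psi b h3).2 fun c hc => ?_⟩
  have h4 := (E.rt_iff _).2 (U.T.root c hc)
  have h5 := hb.2 _ ⟨c, hc, rfl⟩
  rw [cT, χ_ct h4, Units.val_eq_one, hξ.zpow_eq_one_iff_dvd] at h5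
  have h6 : ∀ b, E.D.Rt b → cpr E.D.cs E.D.h b (rt c) ≤ 2 := fun b hb => by
    by_cases e : b = rt c
    · rw [e]
      exact (cpr_self _ _ h4).le
    · exact ((U.T.dlg ⟨c, hc, rfl⟩).2 b hb e).trans (by norm_num)
  have h7 := h6 b hb.1
  have h8 := h6 _ hb.1.neg
  rw [cpr_neg _ _ _ h4] at h8
  show cpr E.D.cs E.D.h b (rt c) = 0
  exact Int.eq_zero_of_abs_lt_dvd h5 (abs_lt.2 ⟨by omega, by omega⟩)

/-- **the defect group is the plane** -/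
theorem mem_Bt [Finite S] {a : S} (ha : a ∈ Q) : s.ι a ∈ Bt E ζ u x := by
  have := U.P.pg.isNilpotent
  let B : Subgroup Q := (Bs E u x hζ).comap (s.ι.comp Q.subtype)
  by_cases hB : B = ⊤
  · exact hB.ge (Subgroup.mem_top (⟨a, ha⟩ : Q))
  obtain ⟨y, h1, h2⟩ := SetLike.exists_of_lt (Group.normalizerCondition_of_isNilpotent B (lt_top_iff_ne_top.2 hB))
  have h3 : ∀ y ∈ Subgroup.normalizer (B : Set Q), ∀ t ∈ Bt E ζ u x, s.ι y * t * (s.ι y)⁻¹ ∈ Bt E ζ u x := by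
    rintro y hy _ ⟨v, hv, rfl⟩
    obtain ⟨c, c1, c2⟩ := U.le hv
    have h4 : s.ι (y * c * (y : S)⁻¹) ∈ Bt E ζ u x := (Subgroup.mem_normalizer_iff.1 hy ⟨c, c1⟩).1 ⟨v, hv, c2.symm⟩
    rwa [map_mul, map_mul, map_inv, c2] at h4
  obtain ⟨z, c, h4⟩ := fo_conj (E := E) (ζ := ζ) (u := u) (x := x) (y := s.ι y) fun t => ⟨fun h => by
    simpa [mul_assoc] using h3 _ (inv_mem h1) _ h, h3 y h1 t⟩
  have h5 : s.ι y ^ 5 = 1 := by rw [← map_pow, Pure.pow_eq hζ U.P y.2, map_one]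
  have h6 := U.T.five (h4.pre hζ U.h5) fun v hv => E.e_inj hζ (by
    rw [← h4.conj_pow hζ U.h5 5 hv, h5, one_mul, inv_one, mul_one])
  exact absurd (U.mem_of_cen y.2 (U.mem_cen (fun t ht => h4.cent hζ U.T U.h5
    (fun v hv => by rw [h4.e1 hζ hv, h6 v hv]) ht) h5)) h2

theorem mem_Bt_iff [Finite S] {t : ↥(C.group k)} : t ∈ Bt E ζ u x ↔ ∃ a ∈ Q, s.ι a = t :=
  ⟨fun ⟨_, hv, e⟩ => e ▸ U.le hv, fun ⟨_, ha, e⟩ => e ▸ U.mem_Bt ha⟩

theorem card [Finite S] : Nat.card Q = 25 := by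
  have h1 : s.ι '' Q = Bt E ζ u x := Set.ext fun _ => U.mem_Bt_iff.symm
  have h2 := Module.natCard_eq_pow_finrank (K := ZMod 5) (V := BB u x)
  rw [finrank_BB fun _ _ => U.T.ind, Nat.card_zmod] at h2
  exact (Nat.card_image_of_injective (ι_inj s) (Q : Set S)).symm.trans
    (h1 ▸ (Nat.card_image_of_injective (E.e_inj hζ) _).trans h2)

end Su

end Cfsg.Agent.TO.X5
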